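import Groth.Agent.Desc19b.AmitsurCech

/-!
# The algebra of primitives of a unit cocycle of a finite projective covering is smooth
-/

set_option autoImplicit false
set_option backward.isDefEq.respectTransparency.types false
set_option backward.isDefEq.respectTransparency false
set_option linter.style.haveILetI false
set_option linter.all false
set_option synthInstance.maxHeartbeats 400000

universe u

open TensorProduct CategoryTheory Simplicial

namespace Groth.Agent.Desc19b.SmoothFppf.Alg

open AmitsurCech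

variable (A B : Type u) [CommRing A] [CommRing B] [Algebra A B]

section Powers

/-- The algebra map out of a tensor power given on the factors. -/
noncomputable def descT {n : ℕ} {S : Type u} [CommRing S] [Algebra A S] (f : Fin (n + 1) → B →ₐ[A] S) :
    T A B n →ₐ[A] S :=
  let w : T A B n ⟶ CommRingCat.of S :=
    Limits.WidePushout.desc (CommRingCat.ofHom (algebraMap A S)) (fun i => CommRingCat.ofHom (f i).toRingHom)
      fun i => by ext a; exact (f i).commutes a
  { w.hom with
    commutes' := fun r => congrArg (fun g : CommRingCat.of A ⟶ CommRingCat.of S => g.hom r)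
      (Limits.WidePushout.head_desc _ _ _ _) }

lemma descT_inj {n : ℕ} {S : Type u} [CommRing S] [Algebra A S] (f : Fin (n + 1) → B →ₐ[A] S)
    (i : Fin (n + 1)) (b : B) : descT A B f (injA A B n i b) = f i b :=
  show (inj A B n i ≫ (Limits.WidePushout.desc (CommRingCat.ofHom (algebraMap A S))
      (fun i => CommRingCat.ofHom (f i).toRingHom) fun i => by ext a; exact (f i).commutes a)).hom b = _ from
  congrArg (fun g : CommRingCat.of B ⟶ CommRingCat.of S => g.hom b)
    (show inj A B n i ≫ _ = CommRingCat.ofHom (f i).toRingHom from Limits.WidePushout.ι_desc _ _ _ _ i)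

/-- The zeroth power. -/
noncomputable def T0Equiv : B ≃ₐ[A] T A B 0 :=
  AlgEquiv.ofAlgHom (injA A B 0 0) (descT A B fun _ => AlgHom.id A B)
    (hom_ext A B fun i b => by
      rw [AlgHom.comp_apply, descT_inj, Fin.eq_zero i]
      rfl)
    (AlgHom.ext fun b => descT_inj A B _ 0 b)

/-- The successor power. -/
noncomputable def TSuccEquiv (n : ℕ) : T A B (n + 1) ≃ₐ[A] B ⊗[A] T A B n :=
  AlgEquiv.ofAlgHom (θ A B n)
    (Algebra.TensorProduct.lift (injA A B (n + 1) 0) (δA A B n 0) fun _ _ => Commute.all _ _)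
    (Algebra.TensorProduct.ext (AlgHom.ext fun b => by simp [θ_inj, θcomp])
      (AlgHom.ext fun t => by
        have h := congr($(θ_δ_zero A B n) t)
        simpa using h))
    (hom_ext A B fun i b => by
      rw [AlgHom.comp_apply, θ_inj]
      refine Fin.cases ?_ (fun j => ?_) i
      · simp [θcomp]
      · simp [θcomp, δA_inj])

variable [Module.Finite A B] [Module.Projective A B]

theorem finite_T (n : ℕ) : Module.Finite A (T A B n) := by
  induction n with
  | zero => exact Module.Finite.equiv (T0Equiv A B).toLinearEquiv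
  | succ n ih => exact Module.Finite.equiv (TSuccEquiv A B n).toLinearEquiv.symm

theorem projective_T (n : ℕ) : Module.Projective A (T A B n) := by
  induction n with
  | zero => exact Module.Projective.of_equiv (T0Equiv A B).toLinearEquiv
  | succ n ih => exact Module.Projective.of_equiv (TSuccEquiv A B n).toLinearEquiv.symm

/-- A linear retraction of the structure map. -/
theorem exists_retraction [Module.FaithfullyFlat A B] : ∃ s : B →ₗ[A] A, s 1 = 1 := by
  obtain ⟨n, p, σ, hp, hσ, hpσ⟩ := Module.Finite.exists_comp_eq_id_of_projective A B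
  let ev : (B →ₗ[A] A) →ₗ[A] A := LinearMap.applyₗ (1 : B)
  suffices LinearMap.range ev = ⊤ from LinearMap.range_eq_top.1 this 1
  by_contra h
  obtain ⟨m, hm, hle⟩ := Ideal.exists_le_maximal (LinearMap.range ev) h
  refine Module.FaithfullyFlat.submodule_ne_top (M := B) hm (Submodule.eq_top_iff'.2 fun b => ?_)
  have h1 : (1 : B) ∈ m • (⊤ : Submodule A B) := by
    have : p (σ 1) = 1 := congr($hpσ 1)
    rw [← this, show σ 1 = ∑ i, σ 1 i • (Pi.single i 1 : Fin n → A) by
      ext j; simp [Finset.sum_apply, Pi.single_apply], map_sum]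
    refine Submodule.sum_mem _ fun i _ => ?_
    rw [map_smul]
    exact Submodule.smul_mem_smul (hle ⟨(LinearMap.proj i).comp σ, rfl⟩) Submodule.mem_top
  have key : ∀ x ∈ m • (⊤ : Submodule A B), x * b ∈ m • (⊤ : Submodule A B) := fun x hx => by
    refine Submodule.smul_induction_on hx (fun a ha y _ => ?_) fun y y' hy hy' => ?_
    · rw [smul_mul_assoc]
      exact Submodule.smul_mem_smul ha Submodule.mem_top
    · rw [add_mul]
      exact add_mem hy hy'
  simpa using key 1 h1

end Powers

section Complexes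

variable (R : Type u) [CommRing R] [Algebra A R]

/-- Coefficients extended. -/
abbrev RT (n : ℕ) : Type u := R ⊗[A] T A B n

/-- Cofaces with coefficients. -/
noncomputable def face (n : ℕ) (k : Fin (n + 2)) : RT A B R n →ₐ[A] RT A B R (n + 1) :=
  Algebra.TensorProduct.map (AlgHom.id A R) (δA A B n k)

lemma face_tmul (n : ℕ) (k : Fin (n + 2)) (x : R) (t : T A B n) :
    face A B R n k (x ⊗ₜ t) = x ⊗ₜ δA A B n k t := Algebra.TensorProduct.map_tmul _ _ _ _

/-- The additive differential. -/
noncomputable def dL (n : ℕ) : RT A B R n →+ RT A B R (n + 1) :=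
  ∑ k : Fin (n + 2), (-1 : ℤ) ^ (k : ℕ) • (face A B R n k).toRingHom.toAddMonoidHom

lemma dL_apply (n : ℕ) (x : RT A B R n) :
    dL A B R n x = ∑ k : Fin (n + 2), (-1 : ℤ) ^ (k : ℕ) • face A B R n k x := by
  simp [dL, AddMonoidHom.finsetSum_apply]

/-- Units, written additively. -/
abbrev U (n : ℕ) : Type u := Additive (RT A B R n)ˣ

/-- Cofaces on units. -/
noncomputable def faceU (n : ℕ) (k : Fin (n + 2)) : U A B R n →+ U A B R (n + 1) :=
  (Units.map (face A B R n k).toRingHom.toMonoidHom).toAdditive

/-- The differential on units. -/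
noncomputable def dU (n : ℕ) : U A B R n →+ U A B R (n + 1) :=
  ∑ k : Fin (n + 2), (-1 : ℤ) ^ (k : ℕ) • faceU A B R n k

lemma dU_apply (n : ℕ) (x : U A B R n) :
    dU A B R n x = ∑ k : Fin (n + 2), (-1 : ℤ) ^ (k : ℕ) • faceU A B R n k x := by
  simp [dU, AddMonoidHom.finsetSum_apply]

/-- Simplicial maps of tensor powers. -/
noncomputable def mapT {m n : SimplexCategory} (g : m ⟶ n) : T A B m.len →ₐ[A] T A B n.len :=
  { ((arr A B).cechConerve.map g).hom with
    commutes' := fun r => congrArg (fun f : CommRingCat.of A ⟶ T A B n.len => f.hom r)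
      (show hd A B m.len ≫ (arr A B).cechConerve.map g = hd A B n.len by simp [hd]) }

/-- Units of the tensor powers as a cosimplicial group. -/
noncomputable def cosimp : CosimplicialObject AddCommGrpCat.{u} where
  obj m := AddCommGrpCat.of (U A B R m.len)
  map g := AddCommGrpCat.ofHom
    (Units.map (Algebra.TensorProduct.map (AlgHom.id A R) (mapT A B g)).toRingHom.toMonoidHom).toAdditive
  map_id m := by
    have : mapT A B (𝟙 m) = AlgHom.id A (T A B m.len) :=
      AlgHom.ext fun x => congrArg (fun f : T A B m.len ⟶ T A B m.len => f.hom x) ((arr A B).cechConerve.map_id m)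
    ext x
    refine congrArg Additive.ofMul (Units.ext ?_)
    change Algebra.TensorProduct.map (AlgHom.id A R) (mapT A B (𝟙 m)) _ = _
    rw [this, Algebra.TensorProduct.map_id]
    rfl
  map_comp {l m n} f g := by
    have : mapT A B (f ≫ g) = (mapT A B g).comp (mapT A B f) :=
      AlgHom.ext fun x =>
        congrArg (fun h : T A B l.len ⟶ T A B n.len => h.hom x) ((arr A B).cechConerve.map_comp f g)
    ext x
    refine congrArg Additive.ofMul (Units.ext ?_)
    change Algebra.TensorProduct.map (AlgHom.id A R) (mapT A B (f ≫ g)) _ = _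
    rw [this, Algebra.TensorProduct.map_id_comp]
    rfl

lemma objD_cosimp (n : ℕ) (x : U A B R n) :
    (AlgebraicTopology.AlternatingCofaceMapComplex.objD (cosimp A B R) n).hom x = dU A B R n x := by
  simp only [AlgebraicTopology.AlternatingCofaceMapComplex.objD, dU_apply]
  refine Eq.trans (congrArg (fun g : _ →+ _ => g x) (map_sum AddCommGrpCat.homAddEquiv _ _)) ?_
  rw [AddMonoidHom.finsetSum_apply]
  rfl

theorem dU_dU (n : ℕ) (x : U A B R n) : dU A B R (n + 1) (dU A B R n x) = 0 := by
  have h := congrArg (fun f => f.hom x)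
    (AlgebraicTopology.AlternatingCofaceMapComplex.d_squared (cosimp A B R) n)
  rw [← objD_cosimp, ← objD_cosimp]
  exact h

variable {R} {R' : Type u} [CommRing R'] [Algebra A R'] (ψ : R →ₐ[A] R')

/-- Change of coefficients. -/
noncomputable def chg (n : ℕ) : RT A B R n →ₐ[A] RT A B R' n :=
  Algebra.TensorProduct.map ψ (AlgHom.id A (T A B n))

/-- Change of coefficients on units. -/
noncomputable def chgU (n : ℕ) : U A B R n →+ U A B R' n :=
  (Units.map (chg A B ψ n).toRingHom.toMonoidHom).toAdditive

lemma chg_face (n : ℕ) (k : Fin (n + 2)) (x : RT A B R n) :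
    chg A B ψ (n + 1) (face A B R n k x) = face A B R' n k (chg A B ψ n x) := by
  have : (chg A B ψ (n + 1)).comp (face A B R n k) = (face A B R' n k).comp (chg A B ψ n) := by
    ext <;> simp [chg, face]
  exact congr($this x)

lemma chgU_dU (n : ℕ) (x : U A B R n) :
    chgU A B ψ (n + 1) (dU A B R n x) = dU A B R' n (chgU A B ψ n x) := by
  rw [dU_apply, dU_apply, map_sum]
  refine Finset.sum_congr rfl fun k _ => ?_
  rw [map_zsmul]
  exact congrArg (fun z => (-1 : ℤ) ^ (k : ℕ) • z) (congrArg Additive.ofMul (Units.ext (chg_face A B ψ n k _)))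

variable (R)

/-- The constant units. -/
noncomputable def zU (n : ℕ) : Additive (T A B n)ˣ →+ U A B R n :=
  (Units.map (Algebra.TensorProduct.includeRight (R := A) (A := R) (B := T A B n)).toRingHom.toMonoidHom).toAdditive

/-- The differential on units of tensor powers. -/
noncomputable def dT (n : ℕ) (x : Additive (T A B n)ˣ) : Additive (T A B (n + 1))ˣ :=
  ∑ k : Fin (n + 2), (-1 : ℤ) ^ (k : ℕ) • (Units.map (δA A B n k).toRingHom.toMonoidHom).toAdditive x

lemma zU_dT (n : ℕ) (x : Additive (T A B n)ˣ) : zU A B R (n + 1) (dT A B n x) = dU A B R n (zU A B R n x) := by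
  rw [dT, dU_apply, map_sum]
  refine Finset.sum_congr rfl fun k _ => ?_
  rw [map_zsmul]
  exact congrArg (fun z => (-1 : ℤ) ^ (k : ℕ) • z)
    (congrArg Additive.ofMul (Units.ext (face_tmul A B R n k 1 _).symm))

variable {R}

lemma chgU_zU (n : ℕ) (x : Additive (T A B n)ˣ) : chgU A B ψ n (zU A B R n x) = zU A B R' n x :=
  congrArg Additive.ofMul (Units.ext (by
    show chg A B ψ n ((1 : R) ⊗ₜ _) = (1 : R') ⊗ₜ _
    simp [chg]))

variable (R)

/-- The multiplicative homotopy given by a point of the covering. -/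
noncomputable def hM (φ : B →ₐ[A] R) (n : ℕ) : RT A B R (n + 1) →ₐ[A] RT A B R n :=
  Algebra.TensorProduct.lift Algebra.TensorProduct.includeLeft
    ((Algebra.TensorProduct.map φ (AlgHom.id A (T A B n))).comp (θ A B n)) fun _ _ => Commute.all _ _

lemma hM_zero (φ : B →ₐ[A] R) (n : ℕ) (x : RT A B R n) : hM A B R φ n (face A B R n 0 x) = x := by
  have : (hM A B R φ n).comp (face A B R n 0) = AlgHom.id A _ := by
    refine Algebra.TensorProduct.ext (AlgHom.ext fun a => ?_) (AlgHom.ext fun t => ?_)
    · simp [hM, face]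
    · have h := congr($(θ_δ_zero A B n) t)
      simp only [AlgHom.comp_apply] at h
      simp [hM, face, h]
  exact congr($this x)

lemma hM_succ (φ : B →ₐ[A] R) (n : ℕ) (k : Fin (n + 2)) (x : RT A B R (n + 1)) :
    hM A B R φ (n + 1) (face A B R (n + 1) k.succ x) = face A B R n k (hM A B R φ n x) := by
  have : (hM A B R φ (n + 1)).comp (face A B R (n + 1) k.succ) = (face A B R n k).comp (hM A B R φ n) := by
    refine Algebra.TensorProduct.ext (AlgHom.ext fun a => ?_) (AlgHom.ext fun t => ?_)
    · simp [hM, face]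
    · have h := congr($(θ_δ_succ A B n k) t)
      simp only [AlgHom.comp_apply] at h
      have e : (Algebra.TensorProduct.map φ (AlgHom.id A (T A B (n + 1)))).comp
          (Algebra.TensorProduct.map (AlgHom.id A B) (δA A B n k)) =
          (face A B R n k).comp (Algebra.TensorProduct.map φ (AlgHom.id A (T A B n))) := by
        ext <;> simp [face]
      simp [hM, h, face_tmul, ← Algebra.TensorProduct.one_def]
      simpa [face] using congr($e (θ A B n t))
  exact congr($this x)

theorem exists_primitive_of_point (φ : B →ₐ[A] R) (n : ℕ) (z : U A B R (n + 1))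
    (hz : dU A B R (n + 1) z = 0) : ∃ y, dU A B R n y = z := by
  let h : ∀ m, U A B R (m + 1) →+ U A B R m := fun m =>
    (Units.map (hM A B R φ m).toRingHom.toMonoidHom).toAdditive
  refine ⟨h n z, ?_⟩
  have h0 : h (n + 1) (faceU A B R (n + 1) 0 z) = z := congrArg Additive.ofMul (Units.ext (hM_zero A B R φ _ _))
  have hs : ∀ k : Fin (n + 2), h (n + 1) (faceU A B R (n + 1) k.succ z) = faceU A B R n k (h n z) := fun k =>
    congrArg Additive.ofMul (Units.ext (hM_succ A B R φ n k _))
  have := congrArg (h (n + 1)) hz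
  rw [dU_apply, Fin.sum_univ_succ, map_add, map_sum, map_zero] at this
  simp only [map_zsmul, hs, Fin.val_zero, pow_zero, one_zsmul, h0, Fin.val_succ, pow_succ, mul_neg_one,
    neg_smul, map_neg, Finset.sum_neg_distrib, ← sub_eq_add_neg, sub_eq_zero] at this
  rw [dU_apply]
  exact this.symm

end Complexes

section Linear

variable (R : Type u) [CommRing R] [Algebra A R] (s : B →ₗ[A] A)

/-- Contraction of the first tensor factor. -/
noncomputable def sl (M : Type u) [AddCommGroup M] [Module A M] : B ⊗[A] M →ₗ[A] M :=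
  (TensorProduct.lid A M).toLinearMap ∘ₗ s.rTensor M

/-- The linear homotopy. -/
noncomputable def hs (n : ℕ) : T A B (n + 1) →ₗ[A] T A B n := sl A B s _ ∘ₗ (θ A B n).toLinearMap

/-- The linear homotopy with coefficients. -/
noncomputable def hL (n : ℕ) : RT A B R (n + 1) →ₗ[A] RT A B R n := (hs A B s n).lTensor R

variable {s}

lemma hs_zero (hs1 : s 1 = 1) (n : ℕ) (t : T A B n) : hs A B s n (δA A B n 0 t) = t := by
  have h := congr($(θ_δ_zero A B n) t)
  simp only [AlgHom.comp_apply] at h
  simp [hs, sl, h, hs1]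

lemma hs_succ (n : ℕ) (k : Fin (n + 2)) (t : T A B (n + 1)) :
    hs A B s (n + 1) (δA A B (n + 1) k.succ t) = δA A B n k (hs A B s n t) := by
  have h := congr($(θ_δ_succ A B n k) t)
  simp only [AlgHom.comp_apply] at h
  have e : sl A B s _ ∘ₗ (Algebra.TensorProduct.map (AlgHom.id A B) (δA A B n k)).toLinearMap =
      (δA A B n k).toLinearMap ∘ₗ sl A B s _ := by
    ext b x
    simp [sl]
  simp [hs, h]
  exact congr($e (θ A B n t))

theorem dL_hL (hs1 : s 1 = 1) (n : ℕ) (x : RT A B R (n + 1)) (hx : dL A B R (n + 1) x = 0) :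
    dL A B R n (hL A B R s n x) = x := by
  have h0 : hL A B R s (n + 1) (face A B R (n + 1) 0 x) = x := by
    have : hL A B R s (n + 1) ∘ₗ (face A B R (n + 1) 0).toLinearMap = LinearMap.id := by
      ext a t
      simp [hL, face, hs_zero A B hs1]
    exact congr($this x)
  have hk : ∀ k : Fin (n + 2),
      hL A B R s (n + 1) (face A B R (n + 1) k.succ x) = face A B R n k (hL A B R s n x) := fun k => by
    have : hL A B R s (n + 1) ∘ₗ (face A B R (n + 1) k.succ).toLinearMap =
        (face A B R n k).toLinearMap ∘ₗ hL A B R s n := by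
      ext a t
      simp [hL, face, hs_succ A B]
    exact congr($this x)
  have := congrArg (hL A B R s (n + 1)) hx
  rw [dL_apply, Fin.sum_univ_succ, map_add, map_sum, map_zero] at this
  simp only [map_zsmul, hk, Fin.val_zero, pow_zero, one_zsmul, h0, Fin.val_succ, pow_succ, mul_neg_one,
    neg_smul, map_neg, Finset.sum_neg_distrib, ← sub_eq_add_neg, sub_eq_zero] at this
  rw [dL_apply]
  exact this.symm

end Linear

section SquareZero

variable {R : Type u} [CommRing R] [Algebra A R] (J : Ideal R) (hJ : J ^ 2 = ⊥)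

/-- Elements reducing to zero. -/
noncomputable abbrev K (n : ℕ) : Ideal (RT A B R n) :=
  RingHom.ker (chg A B (Ideal.Quotient.mkₐ A J) n)

lemma K_eq (n : ℕ) : K A B J n = J.map (Algebra.TensorProduct.includeLeft (R := A) (S := A) (B := T A B n)) := by
  rw [K, chg, Algebra.TensorProduct.map_ker _ _ Ideal.Quotient.mk_surjective Function.surjective_id]
  rw [show RingHom.ker (Ideal.Quotient.mkₐ A J) = J from Ideal.mk_ker,
    show RingHom.ker (AlgHom.id A (T A B n)) = ⊥ from (RingHom.injective_iff_ker_eq_bot _).1 Function.injective_id,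
    Ideal.map_bot, sup_bot_eq]

include hJ in
lemma mul_eq_zero_of_mem (n : ℕ) {x y : RT A B R n} (hx : x ∈ K A B J n) (hy : y ∈ K A B J n) : x * y = 0 := by
  have h := Ideal.mul_mem_mul hx hy
  rw [K_eq, ← Ideal.map_mul, ← pow_two, hJ, Ideal.map_bot, Ideal.mem_bot] at h
  exact h

/-- Units congruent to one. -/
noncomputable def expK (n : ℕ) : K A B J n →+ U A B R n :=
  AddMonoidHom.mk' (fun m => Additive.ofMul
    { val := 1 + m.1
      inv := 1 - m.1
      val_inv := by linear_combination (-1 : RT A B R n) * mul_eq_zero_of_mem A B J hJ n m.2 m.2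
      inv_val := by linear_combination (-1 : RT A B R n) * mul_eq_zero_of_mem A B J hJ n m.2 m.2 })
    fun m m' => congrArg Additive.ofMul (Units.ext (by
      show 1 + (m.1 + m'.1) = (1 + m.1) * (1 + m'.1)
      linear_combination (-1 : RT A B R n) * mul_eq_zero_of_mem A B J hJ n m.2 m'.2))

lemma face_mem {n : ℕ} (k : Fin (n + 2)) {x : RT A B R n} (hx : x ∈ K A B J n) :
    face A B R n k x ∈ K A B J (n + 1) := by
  rw [RingHom.mem_ker] at hx ⊢
  rw [chg_face, hx, map_zero]

lemma dL_mem {n : ℕ} {x : RT A B R n} (hx : x ∈ K A B J n) : dL A B R n x ∈ K A B J (n + 1) := by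
  rw [dL_apply]
  exact Ideal.sum_mem _ fun k _ => zsmul_mem (face_mem A B J k hx) _

lemma dU_expK (n : ℕ) (m : K A B J n) :
    dU A B R n (expK A B J hJ n m) = expK A B J hJ (n + 1) ⟨dL A B R n m.1, dL_mem A B J m.2⟩ := by
  have : (⟨dL A B R n m.1, dL_mem A B J m.2⟩ : K A B J (n + 1)) =
      ∑ k : Fin (n + 2), (-1 : ℤ) ^ (k : ℕ) • ⟨face A B R n k m.1, face_mem A B J k m.2⟩ :=
    Subtype.ext (by simp [dL_apply])
  rw [this, map_sum, dU_apply]
  refine Finset.sum_congr rfl fun k _ => ?_
  rw [map_zsmul]
  exact congrArg (fun z => (-1 : ℤ) ^ (k : ℕ) • z) (congrArg Additive.ofMul (Units.ext (by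
    show face A B R n k (1 + m.1) = 1 + face A B R n k m.1
    rw [map_add, map_one])))

include hJ in
theorem exists_primitive_lift [Module.Finite A B] [Module.Projective A B] [Module.FaithfullyFlat A B]
    (n : ℕ) (z : U A B R (n + 1)) (hz : dU A B R (n + 1) z = 0) (y₀ : U A B (R ⧸ J) n)
    (hy : dU A B (R ⧸ J) n y₀ = chgU A B (Ideal.Quotient.mkₐ A J) (n + 1) z) :
    ∃ y, chgU A B (Ideal.Quotient.mkₐ A J) n y = y₀ ∧ dU A B R n y = z := by
  let q := Ideal.Quotient.mkₐ A J
  have hq : Function.Surjective (chg A B q n) :=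
    Algebra.TensorProduct.map_surjective _ _ Ideal.Quotient.mk_surjective Function.surjective_id
  obtain ⟨v, hv⟩ := hq y₀.toMul.val
  obtain ⟨v', hv'⟩ := hq y₀.toMul.inv
  have hm : v * v' - 1 ∈ K A B J n := by
    rw [RingHom.mem_ker, map_sub, map_mul, map_one, hv, hv', y₀.toMul.val_inv, sub_self]
  have h2 := mul_eq_zero_of_mem A B J hJ n hm hm
  let yv : U A B R n := Additive.ofMul (⟨v, v' * (2 - v * v'),
    by linear_combination (-1 : RT A B R n) * h2, by linear_combination (-1 : RT A B R n) * h2⟩ : (RT A B R n)ˣ)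
  have hyv : chgU A B q n yv = y₀ := congrArg Additive.ofMul (Units.ext hv)
  let e := z - dU A B R n yv
  have hde : dU A B R (n + 1) e = 0 := by rw [map_sub, hz, dU_dU, sub_zero]
  have hce : chgU A B q (n + 1) e = 0 := by rw [map_sub, chgU_dU, hyv, hy, sub_self]
  have hme : e.toMul.val - 1 ∈ K A B J (n + 1) := by
    rw [RingHom.mem_ker, map_sub, map_one,
      show chg A B q (n + 1) e.toMul.val = 1 from congrArg (fun a => (Additive.toMul a).val) hce, sub_self]
  have hexp : expK A B J hJ (n + 1) ⟨_, hme⟩ = e := congrArg Additive.ofMul (Units.ext (by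
    show 1 + (e.toMul.val - 1) = e.toMul.val
    ring))
  have hdm : dL A B R (n + 1) (e.toMul.val - 1) = 0 := by
    have h := hde
    rw [← hexp, dU_expK] at h
    exact add_eq_left.1 (congrArg (fun a => (Additive.toMul a).val) h)
  obtain ⟨s, hs1⟩ := exists_retraction A B
  have hwmem : hL A B R s n (e.toMul.val - 1) ∈ K A B J n := by
    have hc : ∀ x, chg A B q n (hL A B R s n x) = hL A B (R ⧸ J) s n (chg A B q (n + 1) x) := fun x => by
      have : (chg A B q n).toLinearMap ∘ₗ hL A B R s n = hL A B (R ⧸ J) s n ∘ₗ (chg A B q (n + 1)).toLinearMap := by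
        ext a t
        simp [chg, hL]
      exact congr($this x)
    rw [RingHom.mem_ker, hc, RingHom.mem_ker.1 hme, map_zero]
  refine ⟨yv + expK A B J hJ n ⟨_, hwmem⟩, ?_, ?_⟩
  · rw [map_add, hyv, show chgU A B q n (expK A B J hJ n ⟨_, hwmem⟩) = 0 from congrArg Additive.ofMul (Units.ext (by
      show chg A B q n (1 + _) = 1
      rw [map_add, map_one, RingHom.mem_ker.1 hwmem, add_zero])), add_zero]
  · rw [map_add, dU_expK]
    have : (⟨dL A B R n (hL A B R s n (e.toMul.val - 1)), dL_mem A B J hwmem⟩ : K A B J (n + 1)) = ⟨_, hme⟩ :=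
      Subtype.ext (dL_hL A B R hs1 n _ hdm)
    rw [this, hexp, add_sub_cancel]

end SquareZero

end Groth.Agent.Desc19b.SmoothFppf.Alg
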