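import Groth.Agent.Desc19b.FppfSS.Cech
import Groth.Agent.Desc19b.FppfEt.Induction

/-!
# Čech cochains of finite coverings on the big fppf site, and their restrictions
-/

set_option autoImplicit false
set_option backward.isDefEq.respectTransparency.types false
set_option backward.isDefEq.respectTransparency false
set_option linter.style.haveILetI false
set_option linter.all false
set_option synthInstance.maxHeartbeats 400000

universe u

open CategoryTheory CategoryTheory.Limits AlgebraicGeometry Opposite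

namespace Groth.Agent.Desc19b.SmoothFppf

open Groth.Agent.Desc19b.FppfEt Groth.Agent.SiteCoh

variable {X : Scheme.{u}}

/-- The family with one member given by a morphism of schemes to an object of the big site. -/
noncomputable abbrev fam (T : Over X) {V : Scheme.{u}} (π : V ⟶ T.left) : PUnit.{u + 2} → Over T :=
  fun _ => Over.mk (Over.homMk π : Over.mk (π ≫ T.hom) ⟶ T)

/-- Čech cochains of degree `r`. -/
noncomputable abbrev Cn (A : EtFppf.AbF X) (T : Over X) {V : Scheme.{u}} (π : V ⟶ T.left) (r : ℕ) :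
    AddCommGrpCat.{u + 1} :=
  (Cech.cx (FppfSS.psh (EtFppf.J X) A) (fam T π)).X r

/-- The Čech differential. -/
noncomputable abbrev δ (A : EtFppf.AbF X) (T : Over X) {V : Scheme.{u}} (π : V ⟶ T.left) (r : ℕ)
    (z : Cn A T π r) : Cn A T π (r + 1) :=
  (Cech.cx (FppfSS.psh (EtFppf.J X) A) (fam T π)).d r (r + 1) z

/-- A morphism of sheaves on cochains. -/
noncomputable abbrev mapC {A B : EtFppf.AbF X} (φ : A ⟶ B) (T : Over X) {V : Scheme.{u}} (π : V ⟶ T.left)
    {r : ℕ} (z : Cn A T π r) : Cn B T π r :=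
  Cech.map (fam T π) (Functor.whiskerLeft (Over.forget T).op φ.hom) z

section

variable {A B C : EtFppf.AbF X} (T : Over X) {V : Scheme.{u}} (π : V ⟶ T.left) {r : ℕ}

theorem mapC_δ (φ : A ⟶ B) (z : Cn A T π r) : mapC φ T π (δ A T π r z) = δ B T π r (mapC φ T π z) :=
  Cech.map_d _ _ z

theorem ev_mapC (φ : A ⟶ B) (z : Cn A T π r) (a : Fin (r + 1) → PUnit.{u + 2}) :
    Cech.ev (FppfSS.psh (EtFppf.J X) B) (fam T π) a (mapC φ T π z) =
      ap φ (Cech.inter (fam T π) a).left (Cech.ev (FppfSS.psh (EtFppf.J X) A) (fam T π) a z) :=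
  Cech.ev_mk ..

theorem cn_ext {x y : Cn A T π r}
    (h : Cech.ev (FppfSS.psh (EtFppf.J X) A) (fam T π) default x =
      Cech.ev (FppfSS.psh (EtFppf.J X) A) (fam T π) default y) : x = y :=
  Cech.ext _ _ fun a => by rw [Subsingleton.elim a default]; exact h

theorem mapC_sub (φ : A ⟶ B) (x y : Cn A T π r) : mapC φ T π (x - y) = mapC φ T π x - mapC φ T π y :=
  Cech.map_sub _ _ x y

theorem mapC_comp_eq_zero (φ : A ⟶ B) (ψ : B ⟶ C) (h : φ ≫ ψ = 0) (x : Cn A T π r) :
    mapC ψ T π (mapC φ T π x) = 0 := by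
  refine cn_ext T π ?_
  rw [ev_mapC, ev_mapC, ← ap_comp, h, map_zero]
  rfl

theorem δ_δ (z : Cn A T π r) : δ A T π (r + 1) (δ A T π r z) = 0 := by
  change ((Cech.cx (FppfSS.psh (EtFppf.J X) A) (fam T π)).d r (r + 1) ≫
    (Cech.cx (FppfSS.psh (EtFppf.J X) A) (fam T π)).d (r + 1) (r + 1 + 1)) z = 0
  rw [HomologicalComplex.d_comp_d]
  rfl

theorem exists_δ_eq_of_injective (I : EtFppf.AbF X) [Injective I] (z : Cn I T π (r + 1))
    (hz : δ I T π (r + 1) z = 0) : ∃ w, δ I T π r w = z :=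
  (Cech.isZero_homology_succ_iff _ _ r).1 (FppfSS.isZero_cxFunctor_homology (fam T π) I r) z hz

theorem mem_J_fam [Flat π] [LocallyOfFinitePresentation π] [Surjective π] :
    Sieve.ofArrows (fun i => (fam T π i).left) (fun i => (fam T π i).hom) ∈ EtFppf.J X T :=
  mem_J_of_fppf _ _ (fun _ => ‹Flat π›) (fun _ => ‹LocallyOfFinitePresentation π›) fun y => by
    obtain ⟨x, hx⟩ := π.surjective y
    exact ⟨⟨⟩, x, hx⟩

end

theorem isFinite_fan {T : Over X} : ∀ {n : ℕ} (f : Fin n → Over T),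
    (∀ k, IsFinite (f k).hom.left) → ∀ {c : Fan f}, IsLimit c → IsFinite c.pt.hom.left := by
  intro n
  induction n with
  | zero =>
    intro f _ c hc
    have hT : IsTerminal c.pt := IsTerminal.ofUniqueHom
      (fun Z => hc.lift (Fan.mk Z (fun k => Fin.elim0 k)))
      (fun Z m => hc.hom_ext fun ⟨k⟩ => Fin.elim0 k)
    let e := Over.mkIdTerminal.uniqueUpToIso hT
    haveI : IsIso e.inv.left.left := inferInstanceAs (IsIso ((Over.forget T ⋙ Over.forget X).map e.inv))
    rw [show c.pt.hom.left = e.inv.left.left ≫ 𝟙 T.left from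
      congrArg (fun a => a.left) (Over.w e.inv).symm]
    exact MorphismProperty.comp_mem @IsFinite e.inv.left.left (𝟙 T.left) inferInstance
      (inferInstanceAs (IsFinite (𝟙 T.left)))
  | succ n ih =>
    intro f hf c hc
    let c₁ : Fan fun i : Fin n => f i.succ := Fan.mk _ (Pi.π fun i : Fin n => f i.succ)
    let t₁ : IsLimit c₁ := productIsProduct _
    let t₂ := prodIsProd (f 0) c₁.pt
    have h₁ : IsFinite c₁.pt.hom.left := ih _ (fun k => hf k.succ) t₁
    have h₀ : IsFinite (f 0).hom.left := hf 0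
    have h := (Over.isPullback_of_binaryFan_isLimit _ t₂).map (Over.forget X)
    let P := (BinaryFan.mk (prod.fst : f 0 ⨯ c₁.pt ⟶ _) prod.snd)
    haveI : IsFinite (prod.fst : f 0 ⨯ c₁.pt ⟶ _).left.left :=
      MorphismProperty.of_isPullback h.flip h₁
    have h₂ : IsFinite (f 0 ⨯ c₁.pt).hom.left := by
      rw [show (f 0 ⨯ c₁.pt).hom.left = (prod.fst : f 0 ⨯ c₁.pt ⟶ _).left.left ≫ (f 0).hom.left from
        congrArg (fun a => a.left) (Over.w (prod.fst : f 0 ⨯ c₁.pt ⟶ _)).symm]
      infer_instance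
    let e := (extendFanIsLimit f t₁ t₂).conePointUniqueUpToIso hc
    haveI : IsIso e.inv.left.left := inferInstanceAs (IsIso ((Over.forget T ⋙ Over.forget X).map e.inv))
    rw [show c.pt.hom.left = e.inv.left.left ≫ (f 0 ⨯ c₁.pt).hom.left from
      congrArg (fun a => a.left) (Over.w e.inv).symm]
    infer_instance

theorem isFinite_inter {T : Over X} {V : Scheme.{u}} (π : V ⟶ T.left) [IsFinite π] {r : ℕ}
    (a : Fin (r + 1) → PUnit.{u + 2}) : IsFinite (Cech.inter (fam T π) a).hom.left :=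
  isFinite_fan (fun k => fam T π (a k)) (fun _ => ‹IsFinite π›) (limit.isLimit _)

/-- A morphism of one-member families. -/
structure Mor (T' T : Over X) {V' V : Scheme.{u}} (π' : V' ⟶ T'.left) (π : V ⟶ T.left) where
  /-- The morphism of the bases. -/
  g : T' ⟶ T
  /-- The morphism of the coverings. -/
  v : V' ⟶ V
  w : v ≫ π = π' ≫ g.left

/-- Composition of morphisms of families. -/
def Mor.comp {T₂ T₁ T : Over X} {V₂ V₁ V : Scheme.{u}} {π₂ : V₂ ⟶ T₂.left} {π₁ : V₁ ⟶ T₁.left}
    {π : V ⟶ T.left} (m₂ : Mor T₂ T₁ π₂ π₁) (m₁ : Mor T₁ T π₁ π) : Mor T₂ T π₂ π :=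
  ⟨m₂.g ≫ m₁.g, m₂.v ≫ m₁.v, by
    rw [Category.assoc, m₁.w, ← Category.assoc, m₂.w, Category.assoc]
    rfl⟩

/-- The base change of a family along a morphism of the base. -/
noncomputable def Mor.bc {T' T : Over X} (g : T' ⟶ T) {V : Scheme.{u}} (π : V ⟶ T.left) :
    Mor T' T (pullback.fst g.left π) π :=
  ⟨g, pullback.snd g.left π, (pullback.condition (f := g.left) (g := π)).symm⟩

section

variable {A B : EtFppf.AbF X} {T' T : Over X} {V' V : Scheme.{u}} {π' : V' ⟶ T'.left} {π : V ⟶ T.left}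
  (m : Mor T' T π' π) {r : ℕ}

/-- The projection of a member of the family upstairs. -/
noncomputable def famPr (i : PUnit.{u + 2}) : (Over.map m.g).obj (fam T' π' i) ⟶ fam T π i :=
  Over.homMk (Over.homMk m.v (by
      show m.v ≫ π ≫ T.hom = π' ≫ T'.hom
      rw [← Over.w m.g, reassoc_of% m.w]))
    (Over.OverMorphism.ext m.w)

/-- The tuple of projections over a member of the family upstairs. -/
noncomputable def tup {U : Over T'} (s : Fin (r + 1) → (i : PUnit.{u + 2}) × (U ⟶ fam T' π' i)) :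
    Fin (r + 1) → (i : PUnit.{u + 2}) × ((Over.map m.g).obj U ⟶ fam T π i) :=
  fun k => ⟨(s k).1, (Over.map m.g).map (s k).2 ≫ famPr m (s k).1⟩

/-- Restriction of cochains. -/
noncomputable def resC (A : EtFppf.AbF X) (z : Cn A T π r) : Cn A T' π' r :=
  Cech.mk _ _ fun a => Cech.val (FppfSS.psh (EtFppf.J X) A) (fam T π) z (tup m (Cech.taut (fam T' π') a))

theorem val_resC (z : Cn A T π r) {U : Over T'}
    (s : Fin (r + 1) → (i : PUnit.{u + 2}) × (U ⟶ fam T' π' i)) :
    Cech.val (FppfSS.psh (EtFppf.J X) A) (fam T' π') (resC m A z) s =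
      Cech.val (FppfSS.psh (EtFppf.J X) A) (fam T π) z (tup m s) := by
  let l : U ⟶ Cech.inter (fam T' π') (fun k => (s k).1) :=
    Pi.lift (f := fun k => fam T' π' (s k).1) fun k => (s k).2
  change rs A l.left (Cech.ev (FppfSS.psh (EtFppf.J X) A) (fam T' π') (fun k => (s k).1) (resC m A z)) = _
  rw [resC, Cech.ev_mk]
  refine (Cech.map_val (FppfSS.psh (EtFppf.J X) A) (fam T π) z ((Over.map m.g).map l) _).trans ?_
  refine congrArg (Cech.val (FppfSS.psh (EtFppf.J X) A) (fam T π) z) (funext fun k => ?_)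
  refine Sigma.ext rfl (heq_of_eq ?_)
  show (Over.map m.g).map l ≫ (Over.map m.g).map _ ≫ _ = (Over.map m.g).map _ ≫ _
  rw [← Category.assoc, ← Functor.map_comp, Pi.lift_π]

theorem resC_δ (z : Cn A T π r) : resC m A (δ A T π r z) = δ A T' π' r (resC m A z) := by
  refine Cech.ext _ _ fun a => ?_
  rw [Cech.ev_eq_val_taut, Cech.ev_eq_val_taut, val_resC, Cech.val_d, Cech.val_d]
  refine Finset.sum_congr rfl fun j _ => ?_
  rw [val_resC]
  rfl

theorem resC_mapC (φ : A ⟶ B) (z : Cn A T π r) : resC m B (mapC φ T π z) = mapC φ T' π' (resC m A z) := by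
  refine Cech.ext _ _ fun a => ?_
  rw [resC, Cech.ev_mk, ev_mapC, resC, Cech.ev_mk]
  change rs B _ (Cech.ev (FppfSS.psh (EtFppf.J X) B) (fam T π) _ (mapC φ T π z)) = ap φ _ (rs A _ _)
  rw [ev_mapC]
  exact (ap_rs φ _ _).symm

theorem resC_sub (x y : Cn A T π r) : resC m A (x - y) = resC m A x - resC m A y := by
  refine Cech.ext _ _ fun a => ?_
  rw [map_sub, resC, resC, resC, Cech.ev_mk, Cech.ev_mk, Cech.ev_mk]
  simp only [Cech.val, map_sub]

theorem resC_zero : resC m A (0 : Cn A T π r) = 0 := by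
  have := resC_sub m (0 : Cn A T π r) 0
  simpa using this

theorem resC_comp {T'' : Over X} {V'' : Scheme.{u}} {π'' : V'' ⟶ T''.left} (m' : Mor T'' T' π'' π')
    (z : Cn A T π r) : resC (m'.comp m) A z = resC m' A (resC m A z) := by
  refine Cech.ext _ _ fun a => ?_
  rw [Cech.ev_eq_val_taut, Cech.ev_eq_val_taut, val_resC, val_resC, val_resC]
  let I := Cech.inter (fam T'' π'') a
  let c : (Over.map (m'.comp m).g).obj I ⟶ (Over.map m.g).obj ((Over.map m'.g).obj I) :=
    Over.homMk (𝟙 I.left) (by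
      show 𝟙 I.left ≫ (I.hom ≫ m'.g) ≫ m.g = I.hom ≫ m'.g ≫ m.g
      rw [Category.id_comp, Category.assoc])
  let s := tup m (tup m' (Cech.taut (fam T'' π'') a))
  have hs : tup (m'.comp m) (Cech.taut (fam T'' π'') a) = fun k => ⟨(s k).1, c ≫ (s k).2⟩ := funext fun k =>
    Sigma.ext rfl (heq_of_eq (Over.OverMorphism.ext (Over.OverMorphism.ext (by
      simp [tup, famPr, Mor.comp, c, s]
      exact (Category.id_comp _).symm))))
  rw [hs]
  refine ((Cech.map_val (FppfSS.psh (EtFppf.J X) A) (fam T π) z c s).symm.trans ?_)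
  show rs A c.left _ = _
  rw [show c.left = 𝟙 I.left from rfl]
  exact ConcreteCategory.congr_hom (A.obj.map_id _) _

theorem mapC_aug (φ : A ⟶ B) (u : Sec A T) :
    mapC φ T π (FppfSS.aug (fam T π) A u) = FppfSS.aug (fam T π) B (ap φ T u) := by
  refine Cech.ext _ _ fun a => ?_
  rw [ev_mapC, FppfSS.ev_aug, FppfSS.ev_aug]
  exact ap_rs φ _ u

theorem resC_aug (x : Sec A T) :
    resC m A (FppfSS.aug (fam T π) A x) = FppfSS.aug (fam T' π') A (rs A m.g x) := by
  refine Cech.ext _ _ fun a => ?_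
  rw [resC, Cech.ev_mk, FppfSS.val_aug, FppfSS.ev_aug]
  exact (rs_rs A _ m.g x).symm

theorem δ_aug (x : Sec A T) : δ A T π 0 (FppfSS.aug (fam T π) A x) = 0 :=
  ConcreteCategory.congr_hom (FppfSS.aug_d (fam T π) A) x

theorem δ_sub (x y : Cn A T π r) : δ A T π r (x - y) = δ A T π r x - δ A T π r y := map_sub _ x y

theorem aug_sub (x y : Sec A T) :
    FppfSS.aug (fam T π) A (x - y) = FppfSS.aug (fam T π) A x - FppfSS.aug (fam T π) A y := map_sub _ x y

/-- Cochains in the kernel lift to cochains étale locally on the base. -/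
theorem exists_lift {C : EtFppf.AbF X} [IsFinite π] (φ : A ⟶ B) (ψ : B ⟶ C) (h : EtExactAt φ ψ)
    (z : Cn B T π r) (hz : mapC ψ T π z = 0) (t : T.left) :
    ∃ (T' : Over X) (g : T' ⟶ T), Etale g.left ∧ t ∈ Set.range g.left ∧
      ∃ y : Cn A T' (pullback.fst g.left π) r,
        mapC φ T' (pullback.fst g.left π) y = resC (Mor.bc g π) B z := by
  let I := Cech.inter (fam T π) (default : Fin (r + 1) → PUnit.{u + 2})
  let zz := Cech.ev (FppfSS.psh (EtFppf.J X) B) (fam T π) default z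
  have hzz : ap ψ I.left zz = 0 := by
    rw [← ev_mapC T π ψ z default, hz, map_zero]
  haveI : IsFinite I.hom.left := isFinite_inter π _
  obtain ⟨T', g, hg, ht, P, p, l, sq, hcomm, y, hy⟩ := exists_lift_of_finite φ I.hom (h I.left zz hzz) t
  refine ⟨T', g, hg, ht, ?_⟩
  let π₁ := pullback.fst g.left π
  let I' := Cech.inter (fam T' π₁) (default : Fin (r + 1) → PUnit.{u + 2})
  let s := tup (Mor.bc g π) (Cech.taut (fam T' π₁) (default : Fin (r + 1) → PUnit.{u + 2}))
  let L : (Over.map g).obj I' ⟶ I := Pi.lift (f := fun k => fam T π (s k).1) fun k => (s k).2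
  have hL : L.left.left ≫ I.hom.left = I'.hom.left ≫ g.left := congrArg (fun a => a.left) (Over.w L)
  let c : I'.left ⟶ P := Over.homMk (sq.lift L.left.left I'.hom.left hL) (by
    rw [← Over.w p, ← Category.assoc, sq.lift_fst]
    exact Over.w L.left)
  have hc : c ≫ p = L.left := Over.OverMorphism.ext (sq.lift_fst _ _ _)
  refine ⟨Cech.mk _ _ fun a => rs A (eqToHom (congrArg (fun b => (Cech.inter (fam T' π₁) b).left)
    (Subsingleton.elim a default))) (rs A c y), cn_ext T' _ ?_⟩
  rw [ev_mapC, Cech.ev_mk, resC, Cech.ev_mk]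
  change ap φ I'.left (rs A (eqToHom _) (rs A c y)) = rs B L.left zz
  rw [ap_rs, ap_rs, hy, eqToHom_refl]
  refine (ConcreteCategory.congr_hom (B.obj.map_id _) _).trans ?_
  refine (rs_rs B c p zz).trans ?_
  rw [hc]
  rfl

end

end Groth.Agent.Desc19b.SmoothFppf
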