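import Groth.Agent.Desc19b.SmoothFppf.Cochain
import Groth.Agent.Desc19b.FppfEt.Consequences

/-!
# Étale and fppf cohomology of coefficients with étale-locally trivial Čech cohomology of finite coverings
-/

set_option autoImplicit false
set_option backward.isDefEq.respectTransparency.types false
set_option backward.isDefEq.respectTransparency false
set_option linter.style.haveILetI false
set_option linter.all false
set_option synthInstance.maxHeartbeats 400000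

universe u

open CategoryTheory CategoryTheory.Limits CategoryTheory.Abelian AlgebraicGeometry Opposite

namespace Groth.Agent.Desc19b.SmoothFppf

open Groth.Agent.Desc19b.FppfEt Groth.Agent.SiteCoh

variable {X : Scheme.{u}}

/-- Čech cocycles of positive degree of finite coverings are coboundaries étale locally. -/
def GoodCoeff (M : EtFppf.AbF X) : Prop :=
  ∀ (T : Over X) (V : Scheme.{u}) (π : V ⟶ T.left) [IsFinite π] [Flat π] [LocallyOfFinitePresentation π]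
    [Surjective π] (r : ℕ) (z : Cn M T π (r + 1)), δ M T π (r + 1) z = 0 → ∀ t : T.left,
      ∃ (T' : Over X) (V' : Scheme.{u}) (π' : V' ⟶ T'.left) (m : Mor T' T π' π),
        Etale m.g.left ∧ t ∈ Set.range m.g.left ∧ IsFinite π' ∧ Flat π' ∧ LocallyOfFinitePresentation π' ∧
          Surjective π' ∧ ∃ w, δ M T' π' r w = resC m M z

/-- Cocycles of the double complex in a row are coboundaries étale locally. -/
def Solv (C : CochainComplex (EtFppf.AbF X) ℕ) (j : ℕ) : Prop :=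
  ∀ (T : Over X) (V : Scheme.{u}) (π : V ⟶ T.left) [IsFinite π] [Flat π] [LocallyOfFinitePresentation π]
    [Surjective π] (r : ℕ) (z : Cn (C.X j) T π (r + 1)), mapC (C.d j (j + 1)) T π z = 0 →
      δ (C.X j) T π (r + 1) z = 0 → ∀ t : T.left,
      ∃ (T' : Over X) (V' : Scheme.{u}) (π' : V' ⟶ T'.left) (m : Mor T' T π' π),
        Etale m.g.left ∧ t ∈ Set.range m.g.left ∧ IsFinite π' ∧ Flat π' ∧ LocallyOfFinitePresentation π' ∧
          Surjective π' ∧ ∃ w : Cn (C.X j) T' π' r, mapC (C.d j (j + 1)) T' π' w = 0 ∧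
            δ (C.X j) T' π' r w = resC m (C.X j) z

theorem solv_zero {M : EtFppf.AbF X} (hM : GoodCoeff M) {C : CochainComplex (EtFppf.AbF X) ℕ} (ι : M ⟶ C.X 0)
    [Mono ι] (hc : ι ≫ C.d 0 1 = 0)
    (hk : ∀ (T : Over X) (x : Sec (C.X 0) T), ap (C.d 0 1) T x = 0 → ∃ m, ap ι T m = x) : Solv C 0 := by
  intro T V π _ _ _ _ r z hdz hz t
  have hker : ∀ a : Fin (r + 1 + 1) → PUnit.{u + 2}, ∃ m : Sec M (Cech.inter (fam T π) a).left,
      ap ι _ m = Cech.ev (FppfSS.psh (EtFppf.J X) (C.X 0)) (fam T π) a z := fun a =>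
    hk _ _ (by
      show ap (C.d 0 1) (Cech.inter (fam T π) a).left _ = _
      rw [← ev_mapC T π (C.d 0 1) z a, hdz, map_zero]
      )
  choose y hy using hker
  let zM : Cn M T π (r + 1) := Cech.mk _ _ y
  have hzM : mapC ι T π zM = z := Cech.ext _ _ fun a => by
    rw [ev_mapC, Cech.ev_mk]
    exact hy a
  have hinj : ∀ {T' : Over X} {V' : Scheme.{u}} (π' : V' ⟶ T'.left) {n : ℕ} (x : Cn M T' π' n),
      mapC ι T' π' x = 0 → x = 0 := fun {T'} {V'} π' n x hx => Cech.ext _ _ fun a => sec_injective ι _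
    ((ev_mapC T' π' ι x a).symm.trans (by rw [hx, map_zero, map_zero]; exact (ap_zero ι _).symm))
  obtain ⟨T', V', π', m, h₁, h₂, h₃, h₄, h₅, h₆, w, hw⟩ :=
    hM T V π r zM (hinj π _ (by rw [mapC_δ, hzM, hz])) t
  refine ⟨T', V', π', m, h₁, h₂, h₃, h₄, h₅, h₆, mapC ι T' π' w, mapC_comp_eq_zero T' π' ι _ hc w, ?_⟩
  rw [← mapC_δ, hw, ← resC_mapC, hzM]

theorem solv_succ {C : CochainComplex (EtFppf.AbF X) ℕ} [hC : ∀ n, Injective (C.X n)] {j : ℕ}
    (hj : Solv C j) (hex : EtExactAt (C.d j (j + 1)) (C.d (j + 1) (j + 2))) : Solv C (j + 1) := by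
  intro T V π _ _ _ _ r z hdz hz t
  obtain ⟨T₁, g₁, hg₁, ⟨t₁, rfl⟩, y, hy⟩ := exists_lift (C.d j (j + 1)) (C.d (j + 1) (j + 2)) hex z hdz t
  let π₁ := pullback.fst g₁.left π
  let m₁ := Mor.bc g₁ π
  have hdδ : mapC (C.d j (j + 1)) T₁ π₁ (δ (C.X j) T₁ π₁ (r + 1) y) = 0 := by
    rw [mapC_δ, hy, ← resC_δ, hz, resC_zero]
  obtain ⟨T₂, V₂, π₂, m₂, h₁, ⟨t₂, ht₂⟩, h₃, h₄, h₅, h₆, w', hdw', hw'⟩ :=
    hj T₁ _ π₁ (r + 1) _ hdδ (δ_δ T₁ π₁ y) t₁
  have hy' : δ (C.X j) T₂ π₂ (r + 1) (resC m₂ (C.X j) y - w') = 0 := by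
    rw [δ_sub, ← resC_δ, hw', sub_self]
  haveI := hC j
  obtain ⟨u, hu⟩ := exists_δ_eq_of_injective T₂ π₂ (C.X j) _ hy'
  haveI : Etale g₁.left := hg₁
  haveI : Etale m₂.g.left := h₁
  refine ⟨T₂, V₂, π₂, m₂.comp m₁, inferInstanceAs (Etale (m₂.g.left ≫ g₁.left)),
    ⟨t₂, by show g₁.left (m₂.g.left t₂) = _; rw [ht₂]⟩, h₃, h₄, h₅, h₆,
    mapC (C.d j (j + 1)) T₂ π₂ u, mapC_comp_eq_zero T₂ π₂ _ _ (C.d_comp_d _ _ _) u, ?_⟩
  rw [← mapC_δ, hu, mapC_sub, hdw', sub_zero, ← resC_mapC, hy, resC_comp]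

theorem etExactAt_of_solv {C : CochainComplex (EtFppf.AbF X) ℕ} {q : ℕ} (hq : Solv C q)
    (hex : FppfExactAt (C.d q (q + 1)) (C.d (q + 1) (q + 2))) :
    EtExactAt (C.d q (q + 1)) (C.d (q + 1) (q + 2)) := by
  intro T x hx t
  obtain ⟨R, f, hff, hfp, ⟨s, hs⟩, y, hy⟩ := hex T x hx t
  obtain ⟨S', V, e, π, he, ⟨t₁, ht₁⟩, hπs, hπf, hπfl, hπp, ρ, hρ⟩ :=
    FlatMor12.exists_etale_finite_slice f.left t s hs
  let T₁ : Over X := Over.mk (e ≫ T.hom)
  let e' : T₁ ⟶ T := Over.homMk e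
  let W : Over X := Over.mk (π ≫ T₁.hom)
  let v : W ⟶ R := Over.homMk ρ (by
    show ρ ≫ R.hom = π ≫ e ≫ T.hom
    rw [← Over.w f, ← Category.assoc, hρ, Category.assoc])
  let pw : W ⟶ T₁ := Over.homMk π
  have hv : v ≫ f = pw ≫ e' := Over.OverMorphism.ext hρ
  let x₁ := rs (C.X (q + 1)) e' x
  let c₀ : Cn (C.X q) T₁ π 0 :=
    Cech.mk _ _ fun a => rs (C.X q) (Pi.π (fun k => fam T₁ π (a k)) 0).left (rs (C.X q) v y)
  have hc₀ : mapC (C.d q (q + 1)) T₁ π c₀ = FppfSS.aug (fam T₁ π) (C.X (q + 1)) x₁ :=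
    Cech.ext _ _ fun a => by
      rw [ev_mapC, Cech.ev_mk, FppfSS.ev_aug, ap_rs, ap_rs, hy]
      show rs (C.X (q + 1)) (Pi.π (fun k => fam T₁ π (a k)) 0).left (rs (C.X (q + 1)) v (rs (C.X (q + 1)) f x)) =
        rs (C.X (q + 1)) (Cech.inter (fam T₁ π) a).hom (rs (C.X (q + 1)) e' x)
      rw [rs_rs, rs_rs, rs_rs]
      refine congrArg (fun k => rs (C.X (q + 1)) k x) ?_
      rw [Category.assoc]
      erw [hv]
      rw [← Category.assoc, show (Pi.π (fun k => fam T₁ π (a k)) 0).left ≫ pw = (Cech.inter (fam T₁ π) a).hom from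
        Over.w (Pi.π (fun k => fam T₁ π (a k)) 0)]
  have hd : mapC (C.d q (q + 1)) T₁ π (δ (C.X q) T₁ π 0 c₀) = 0 := by
    rw [mapC_δ, hc₀, δ_aug]
  obtain ⟨T₂, V₂, π₂, m, h₁, ⟨t₂, ht₂⟩, h₃, h₄, h₅, h₆, w, hdw, hw⟩ :=
    hq T₁ V π 0 _ hd (δ_δ T₁ π c₀) t₁
  have h0 : δ (C.X q) T₂ π₂ 0 (resC m (C.X q) c₀ - w) = 0 := by
    rw [δ_sub, ← resC_δ, hw, sub_self]
  obtain ⟨b, hb⟩ := (FppfSS.bijective_aug (fam T₂ π₂) (mem_J_fam T₂ π₂) (C.X q)).2 _ h0
  haveI : Etale e := he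
  haveI : Etale m.g.left := h₁
  refine ⟨T₂, m.g ≫ e', inferInstanceAs (Etale (m.g.left ≫ e)),
    ⟨t₂, by show e (m.g.left t₂) = t; rw [ht₂, ht₁]⟩, b,
    (FppfSS.bijective_aug (fam T₂ π₂) (mem_J_fam T₂ π₂) (C.X (q + 1))).1 ?_⟩
  rw [← mapC_aug, hb, mapC_sub, hdw, sub_zero, ← resC_mapC, hc₀, resC_aug]
  exact congrArg _ (rs_rs _ _ _ _)

theorem etExactAt_resolution {M : EtFppf.AbF X} (hM : GoodCoeff M) (I : InjectiveResolution M) (j : ℕ) :
    EtExactAt (I.cocomplex.d j (j + 1)) (I.cocomplex.d (j + 1) (j + 2)) := by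
  have hex : ∀ q, FppfExactAt (I.cocomplex.d q (q + 1)) (I.cocomplex.d (q + 1) (q + 2)) := fun q =>
    fppfExactAt_of_exact (S := ShortComplex.mk _ _ (I.cocomplex.d_comp_d q (q + 1) (q + 2))) (I.exact_succ q)
  haveI : ∀ n, Injective (I.cocomplex.X n) := I.injective
  let e := (limit.isLimit _).conePointUniqueUpToIso I.isLimitKernelFork
  have h0 : Solv I.cocomplex 0 := by
    refine solv_zero hM (I.ι.f 0) I.ι_f_zero_comp_complex_d fun T x hx => ?_
    obtain ⟨z, hz⟩ := exists_kernel_sec (I.cocomplex.d 0 1) T x hx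
    refine ⟨ap e.hom T z, ?_⟩
    have he : e.hom ≫ I.ι.f 0 = kernel.ι (I.cocomplex.d 0 1) :=
      IsLimit.conePointUniqueUpToIso_hom_comp _ _ WalkingParallelPair.zero
    rw [← hz, ← he]
    rfl
  have h : ∀ q, Solv I.cocomplex q := fun q => by
    induction q with
    | zero => exact h0
    | succ q ih => exact solv_succ ih (etExactAt_of_solv ih (hex q))
  exact etExactAt_of_solv (h j) (hex j)

/-- Restriction to the small site is acyclic. -/
theorem isZero_RaPush [EtFppf.ACont X] {M : EtFppf.AbF X} (hM : GoodCoeff M) (q : ℕ) (hq : 0 < q) :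
    IsZero ((EtFppf.RaPush X q).obj M) := by
  obtain ⟨j, rfl⟩ : ∃ j, q = j + 1 := ⟨q - 1, by omega⟩
  let I := injectiveResolution M
  refine isZero_rightDerived_of_exact (EtFppf.aPush X) I j (exact_of_local _ fun U x hx t => ?_)
  obtain ⟨R, g, hg, ⟨w, hw⟩, y, hy⟩ := etExactAt_resolution hM I j ((EtFppf.a X).obj U) x hx t
  haveI : Etale U.hom := U.prop
  haveI : Etale (g.left ≫ U.hom) := inferInstance
  let U' : X.Etale := Scheme.Etale.mk (g.left ≫ U.hom)
  let g' : U' ⟶ U := MorphismProperty.Over.homMk g.left rfl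
  let c : (EtFppf.a X).obj U' ⟶ R := Over.homMk (𝟙 R.left) ((Category.id_comp _).trans (Over.w g).symm)
  have hc : c ≫ g = (EtFppf.a X).map g' := Over.OverMorphism.ext (Category.id_comp _)
  refine ⟨U', g', w, hw, rs (I.cocomplex.X j) c y, ?_⟩
  change ap (I.cocomplex.d j (j + 1)) _ (rs _ c y) = rs (I.cocomplex.X (j + 1)) ((EtFppf.a X).map g') x
  rw [← hc, ap_rs, hy, rs_rs]

/-- Étale and fppf cohomology agree for such coefficients. -/
theorem nonempty_H_equiv_HF [EtFppf.ACont X] {M : EtFppf.AbF X} (hM : GoodCoeff M) (n : ℕ) :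
    Nonempty (EtCoh.H X ((EtFppf.aPush X).obj M) n ≃+ EtFppf.HF X M n) := by
  let adj := EtFppf.aAdj X
  let A := AddCommGrpCat.of (ULift.{u + 1} ℤ)
  haveI : (EtFppf.aPull X).Additive := adj.left_adjoint_additive
  let e : (EtFppf.aPull X).obj ((constantSheaf X.smallEtaleTopology AddCommGrpCat.{u + 1}).obj A) ≅
      (constantSheaf (EtFppf.J X) AddCommGrpCat.{u + 1}).obj A :=
    ((((constantSheafAdj X.smallEtaleTopology AddCommGrpCat.{u + 1} (EtCore.topIsTerminal X)).comp adj).ofNatIsoRight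
      (show EtFppf.aPush X ⋙ (sheafSections X.smallEtaleTopology AddCommGrpCat.{u + 1}).obj (op (EtCoh.top X)) ≅
          (sheafSections (EtFppf.J X) AddCommGrpCat.{u + 1}).obj (op (Over.mk (𝟙 X))) from
        NatIso.ofComponents (fun _ => Iso.refl _) (fun f => by
          dsimp
          simp only [Category.comp_id, Category.id_comp]
          rfl))).leftAdjointUniq
      (constantSheafAdj (EtFppf.J X) AddCommGrpCat.{u + 1} Over.mkIdTerminal)).app A
  have h := EtCmp.bijective_adjExtHom adj ((constantSheaf X.smallEtaleTopology AddCommGrpCat.{u + 1}).obj A) n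
    M (fun q hq => isZero_RaPush hM q hq)
  let e' : Ext.{u + 1} ((EtFppf.aPull X).obj ((constantSheaf X.smallEtaleTopology AddCommGrpCat.{u + 1}).obj A))
      M n ≃+ EtFppf.HF X M n :=
    { toFun := fun x => (Ext.mk₀ e.inv).comp x (zero_add n)
      invFun := fun x => (Ext.mk₀ e.hom).comp x (zero_add n)
      left_inv := fun x => by
        dsimp only
        rw [Ext.mk₀_comp_mk₀_assoc, Iso.hom_inv_id, Ext.mk₀_id_comp]
      right_inv := fun x => by
        dsimp only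
        rw [Ext.mk₀_comp_mk₀_assoc, Iso.inv_hom_id, Ext.mk₀_id_comp]
      map_add' := fun x y => Ext.comp_add _ _ _ _ }
  exact ⟨(AddEquiv.ofBijective _ h).trans e'⟩

end Groth.Agent.Desc19b.SmoothFppf
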