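import Groth.Agent.Desc19b.SmoothFppf.Alg

/-!
# The smooth algebra of primitives of a unit cocycle
-/

set_option autoImplicit false
set_option backward.isDefEq.respectTransparency.types false
set_option backward.isDefEq.respectTransparency false
set_option linter.style.haveILetI false
set_option linter.all false
set_option synthInstance.maxHeartbeats 400000

universe u

open TensorProduct

namespace Groth.Agent.Desc19b.SmoothFppf.Alg

open AmitsurCech

variable (A B : Type u) [CommRing A] [CommRing B] [Algebra A B]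

section Coef

variable {L : Type u} [AddCommGroup L] [Module A L] {m : ℕ} {p : (Fin m → A) →ₗ[A] L} {σ : L →ₗ[A] Fin m → A}
  (R : Type u) [CommRing R] [Algebra A R]

/-- The coefficients of an element along a system of generators. -/
noncomputable def coef (σ : L →ₗ[A] Fin m → A) (i : Fin m) : R ⊗[A] L →ₗ[A] R :=
  (TensorProduct.rid A R).toLinearMap ∘ₗ ((LinearMap.proj i).comp σ).lTensor R

/-- The combination with given coefficients. -/
noncomputable def comb (p : (Fin m → A) →ₗ[A] L) (a : Fin m → R) : R ⊗[A] L :=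
  ∑ i, a i ⊗ₜ[A] p (Pi.single i 1)

variable {R}

lemma comb_coef (hpσ : p ∘ₗ σ = LinearMap.id) (v : R ⊗[A] L) :
    comb A R p (fun i => coef A R σ i v) = v := by
  induction v using TensorProduct.induction_on with
  | zero => simp [comb]
  | add x y hx hy =>
    simp only [comb] at hx hy ⊢
    simp only [map_add, add_tmul, Finset.sum_add_distrib, hx, hy]
  | tmul a l =>
    have : p (σ l) = l := congr($hpσ l)
    conv_rhs => rw [← this, show σ l = ∑ i, σ l i • (Pi.single i 1 : Fin m → A) by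
      ext j; simp [Finset.sum_apply, Pi.single_apply], map_sum, tmul_sum]
    refine Finset.sum_congr rfl fun i _ => ?_
    simp [coef, tmul_smul, smul_tmul']

variable {R' : Type u} [CommRing R'] [Algebra A R'] (ψ : R →ₐ[A] R')

lemma coef_natural (i : Fin m) (v : R ⊗[A] L) :
    coef A R' σ i (ψ.toLinearMap.rTensor L v) = ψ (coef A R σ i v) := by
  induction v using TensorProduct.induction_on with
  | zero => simp
  | add x y hx hy => simp [hx, hy]
  | tmul a l => simp [coef]

lemma comb_natural (a : Fin m → R) : ψ.toLinearMap.rTensor L (comb A R p a) = comb A R' p (ψ ∘ a) := by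
  simp [comb, map_sum]

end Coef

variable {A B}

lemma chg_eq {R R' : Type u} [CommRing R] [Algebra A R] [CommRing R'] [Algebra A R'] (ψ : R →ₐ[A] R') (n : ℕ)
    (x : RT A B R n) : chg A B ψ n x = ψ.toLinearMap.rTensor (T A B n) x := rfl

variable (A B)

section

variable {R R' R'' : Type u} [CommRing R] [Algebra A R] [CommRing R'] [Algebra A R'] [CommRing R''] [Algebra A R'']
  {n m : ℕ} {p : (Fin m → A) →ₗ[A] T A B n} {σ : T A B n →ₗ[A] Fin m → A}

lemma chg_chg (ψ : R →ₐ[A] R') (ψ' : R' →ₐ[A] R'') (x : RT A B R n) :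
    chg A B ψ' n (chg A B ψ n x) = chg A B (ψ'.comp ψ) n x := by
  simp only [chg_eq, ← LinearMap.comp_apply, ← LinearMap.rTensor_comp]
  rfl

lemma chg_comb (ψ : R →ₐ[A] R') (a : Fin m → R) : chg A B ψ n (comb A R p a) = comb A R' p (ψ ∘ a) :=
  comb_natural A ψ a

lemma map_coef_eq_zero (ψ : R →ₐ[A] R') {v v' : RT A B R n} (h : chg A B ψ n v = chg A B ψ n v') (i : Fin m) :
    ψ (coef A R σ i (v - v')) = 0 := by
  rw [← coef_natural A ψ i, ← chg_eq, map_sub, h, sub_self, map_zero]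

lemma chg_mk_eq (hpσ : p ∘ₗ σ = LinearMap.id) (I : Ideal R) {v v' : RT A B R n}
    (h : ∀ i, coef A R σ i (v - v') ∈ I) :
    chg A B (Ideal.Quotient.mkₐ A I) n v = chg A B (Ideal.Quotient.mkₐ A I) n v' := by
  rw [← sub_eq_zero, ← map_sub, chg_eq, ← comb_coef A hpσ (v - v'), comb_natural]
  refine Finset.sum_eq_zero fun i _ => ?_
  rw [show (Ideal.Quotient.mkₐ A I ∘ fun j => coef A R σ j (v - v')) i = 0 from
    Ideal.Quotient.eq_zero_iff_mem.2 (h i), zero_tmul]

lemma chgU_val (ψ : R →ₐ[A] R') (y : U A B R n) :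
    (chgU A B ψ n y).toMul.val = chg A B ψ n y.toMul.val := rfl

lemma chgU_inv (ψ : R →ₐ[A] R') (y : U A B R n) :
    (chgU A B ψ n y).toMul.inv = chg A B ψ n y.toMul.inv := rfl

lemma U_ext {a b : U A B R n} (h : a.toMul.val = b.toMul.val) : a = b := congrArg Additive.ofMul (Units.ext h)

lemma chgU_mk_eq (hpσ : p ∘ₗ σ = LinearMap.id) (I : Ideal R) {v v' : U A B R n}
    (h : ∀ i, coef A R σ i (v.toMul.val - v'.toMul.val) ∈ I) :
    chgU A B (Ideal.Quotient.mkₐ A I) n v = chgU A B (Ideal.Quotient.mkₐ A I) n v' :=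
  U_ext A B (chg_mk_eq A B hpσ I h)

lemma dU_chgU_mk_eq {k : ℕ} {p' : (Fin k → A) →ₗ[A] T A B (n + 1)} {σ' : T A B (n + 1) →ₗ[A] Fin k → A}
    (hpσ' : p' ∘ₗ σ' = LinearMap.id) (I : Ideal R) (y : U A B R n) (z : Additive (T A B (n + 1))ˣ)
    (h : ∀ i, coef A R σ' i ((dU A B R n y).toMul.val - (zU A B R (n + 1) z).toMul.val) ∈ I) :
    dU A B (R ⧸ I) n (chgU A B (Ideal.Quotient.mkₐ A I) n y) = zU A B (R ⧸ I) (n + 1) z := by
  rw [← chgU_dU, chgU_mk_eq A B hpσ' I h, chgU_zU]

end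

/-- An algebra classifying coordinates of primitives. -/
theorem exists_universal [Module.Finite A B] [Module.Projective A B] (r : ℕ) (z : Additive (T A B (r + 1))ˣ)
    {m : ℕ} {p : (Fin m → A) →ₗ[A] T A B r} {σ : T A B r →ₗ[A] Fin m → A} (hpσ : p ∘ₗ σ = LinearMap.id) :
    ∃ (C : Type u) (_ : CommRing C) (_ : Algebra A C), Algebra.FinitePresentation A C ∧
      ∃ (y : U A B C r) (gl gr : Fin m → C), dU A B C r y = zU A B C (r + 1) z ∧
        comb A C p gl = y.toMul.val ∧ comb A C p gr = y.toMul.inv ∧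
        (∀ (R : Type u) [CommRing R] [Algebra A R] (w : U A B R r) (a a' : Fin m → R),
          dU A B R r w = zU A B R (r + 1) z → comb A R p a = w.toMul.val → comb A R p a' = w.toMul.inv →
          ∃ f : C →ₐ[A] R, (∀ i, f (gl i) = a i) ∧ ∀ i, f (gr i) = a' i) ∧
        ∀ (R : Type u) [CommRing R] [Algebra A R] (f f' : C →ₐ[A] R),
          (∀ i, f (gl i) = f' (gl i)) → (∀ i, f (gr i) = f' (gr i)) → f = f' := by
  haveI := finite_T A B (r + 1)
  haveI := projective_T A B (r + 1)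
  obtain ⟨k, p', σ', -, -, hpσ'⟩ := Module.Finite.exists_comp_eq_id_of_projective A (T A B (r + 1))
  let P := MvPolynomial (Fin m ⊕ Fin m) A
  let Xl : Fin m → P := fun i => MvPolynomial.X (Sum.inl i)
  let Xr : Fin m → P := fun i => MvPolynomial.X (Sum.inr i)
  let I₀ : Ideal P := Ideal.span (Set.range fun i => coef A P σ i (comb A P p Xl * comb A P p Xr - 1))
  let q₀ : P →ₐ[A] P ⧸ I₀ := Ideal.Quotient.mkₐ A I₀
  have h₀ : chg A B q₀ r (comb A P p Xl) * chg A B q₀ r (comb A P p Xr) = 1 := by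
    rw [← map_mul, ← map_one (chg A B q₀ r)]
    exact chg_mk_eq A B hpσ I₀ fun i => Ideal.subset_span ⟨i, rfl⟩
  obtain ⟨yu, hyl, hyr⟩ : ∃ yu : U A B (P ⧸ I₀) r, yu.toMul.val = chg A B q₀ r (comb A P p Xl) ∧
      yu.toMul.inv = chg A B q₀ r (comb A P p Xr) :=
    ⟨Additive.ofMul ⟨_, _, h₀, by rw [mul_comm]; exact h₀⟩, rfl, rfl⟩
  let I₁ : Ideal (P ⧸ I₀) := Ideal.span (Set.range fun i => coef A (P ⧸ I₀) σ' i
    ((dU A B (P ⧸ I₀) r yu).toMul.val - (zU A B (P ⧸ I₀) (r + 1) z).toMul.val))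
  let q₁ : P ⧸ I₀ →ₐ[A] (P ⧸ I₀) ⧸ I₁ := Ideal.Quotient.mkₐ A I₁
  let g : P →ₐ[A] (P ⧸ I₀) ⧸ I₁ := q₁.comp q₀
  refine ⟨(P ⧸ I₀) ⧸ I₁, inferInstance, inferInstance, ?_, chgU A B q₁ r yu, g ∘ Xl, g ∘ Xr, ?_, ?_, ?_, ?_, ?_⟩
  · haveI : Algebra.FinitePresentation A (P ⧸ I₀) :=
      Algebra.FinitePresentation.quotient (Submodule.fg_span (Set.finite_range _))
    exact Algebra.FinitePresentation.quotient (Submodule.fg_span (Set.finite_range _))
  · exact dU_chgU_mk_eq A B hpσ' I₁ yu z fun i => Ideal.subset_span ⟨i, rfl⟩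
  · rw [chgU_val, hyl, chg_chg, chg_comb]
  · rw [chgU_inv, hyr, chg_chg, chg_comb]
  · intro R _ _ w a a' hw ha ha'
    let e : P →ₐ[A] R := MvPolynomial.aeval (Sum.elim a a')
    have heY : chg A B e r (comb A P p Xl) = w.toMul.val := by
      rw [chg_comb, ← ha]
      exact congrArg (comb A R p) (funext fun i => MvPolynomial.aeval_X _ _)
    have heY' : chg A B e r (comb A P p Xr) = w.toMul.inv := by
      rw [chg_comb, ← ha']
      exact congrArg (comb A R p) (funext fun i => MvPolynomial.aeval_X _ _)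
    have he₀ : ∀ x ∈ I₀, e x = 0 := fun x hx => by
      refine (Ideal.span_le (I := RingHom.ker e)).2 ?_ hx
      rintro _ ⟨i, rfl⟩
      exact map_coef_eq_zero A B e (by rw [map_mul, map_one, heY, heY', w.toMul.val_inv]) i
    let e₀ : P ⧸ I₀ →ₐ[A] R := Ideal.Quotient.liftₐ I₀ e he₀
    have hyu : chgU A B e₀ r yu = w := U_ext A B (by rw [chgU_val, hyl, chg_chg]; exact heY)
    have he₁ : ∀ x ∈ I₁, e₀ x = 0 := fun x hx => by
      refine (Ideal.span_le (I := RingHom.ker e₀)).2 ?_ hx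
      rintro _ ⟨i, rfl⟩
      exact map_coef_eq_zero A B e₀ (by rw [← chgU_val, ← chgU_val, chgU_dU, hyu, hw, chgU_zU]) i
    exact ⟨Ideal.Quotient.liftₐ I₁ e₀ he₁, fun i => MvPolynomial.aeval_X (Sum.elim a a') (Sum.inl i),
      fun i => MvPolynomial.aeval_X (Sum.elim a a') (Sum.inr i)⟩
  · intro R _ _ f f' hl hr
    refine Ideal.Quotient.algHom_ext A (Ideal.Quotient.algHom_ext A (MvPolynomial.algHom_ext fun i => ?_))
    rcases i with i | i
    · exact hl i
    · exact hr i

/-- The classifying algebra of primitives is smooth. -/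
theorem formallySmooth_universal [Module.Finite A B] [Module.Projective A B] [Module.FaithfullyFlat A B] (r : ℕ)
    (z : Additive (T A B (r + 1))ˣ) (hz : dT A B (r + 1) z = 0) {m : ℕ} {p : (Fin m → A) →ₗ[A] T A B r}
    {σ : T A B r →ₗ[A] Fin m → A} (hpσ : p ∘ₗ σ = LinearMap.id) {C : Type u} [CommRing C] [Algebra A C]
    (yC : U A B C r) (gl gr : Fin m → C) (hyC : dU A B C r yC = zU A B C (r + 1) z)
    (hgl : comb A C p gl = yC.toMul.val) (hgr : comb A C p gr = yC.toMul.inv)
    (hom_of : ∀ (R : Type u) [CommRing R] [Algebra A R] (w : U A B R r) (a a' : Fin m → R),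
      dU A B R r w = zU A B R (r + 1) z → comb A R p a = w.toMul.val → comb A R p a' = w.toMul.inv →
      ∃ f : C →ₐ[A] R, (∀ i, f (gl i) = a i) ∧ ∀ i, f (gr i) = a' i)
    (hext : ∀ (R : Type u) [CommRing R] [Algebra A R] (f f' : C →ₐ[A] R),
      (∀ i, f (gl i) = f' (gl i)) → (∀ i, f (gr i) = f' (gr i)) → f = f') :
    Algebra.FormallySmooth A C := by
  have hzR : ∀ (R : Type u) [CommRing R] [Algebra A R], dU A B R (r + 1) (zU A B R (r + 1) z) = 0 :=
    fun R _ _ => by rw [← zU_dT, hz, map_zero]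
  rw [Algebra.FormallySmooth.iff_comp_surjective]
  intro R _ _ J hJ f₀
  have hJ' : J ^ 2 = ⊥ := hJ
  let q := Ideal.Quotient.mkₐ A J
  obtain ⟨y, hyq, hy⟩ := exists_primitive_lift A B J hJ' r (zU A B R (r + 1) z) (hzR R)
    (chgU A B f₀ r yC) (by rw [← chgU_dU, hyC, chgU_zU, chgU_zU])
  have adjust : ∀ (v : RT A B R r) (g : Fin m → C), chg A B q r v = chg A B f₀ r (comb A C p g) →
      ∃ a : Fin m → R, comb A R p a = v ∧ ∀ i, Ideal.Quotient.mk J (a i) = f₀ (g i) := by
    intro v g hv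
    choose a ha using fun i => Ideal.Quotient.mk_surjective (I := J) (f₀ (g i))
    refine ⟨fun i => a i + coef A R σ i (v - comb A R p a), ?_, fun i => ?_⟩
    · have h := comb_coef A hpσ (v - comb A R p a)
      simp only [comb] at h ⊢
      simp only [add_tmul, Finset.sum_add_distrib]
      rw [h]
      abel
    · rw [map_add, ha, add_eq_left]
      refine map_coef_eq_zero A B q ?_ i
      rw [hv, chg_comb, chg_comb]
      exact congrArg (comb A _ p) (funext fun j => (ha j).symm)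
  obtain ⟨a, ha, hal⟩ := adjust y.toMul.val gl (by rw [hgl, ← chgU_val, ← chgU_val, hyq])
  obtain ⟨a', ha', har⟩ := adjust y.toMul.inv gr (by rw [hgr, ← chgU_inv, ← chgU_inv, hyq])
  obtain ⟨f, hf, hf'⟩ := hom_of R y a a' hy ha ha'
  exact ⟨f, hext _ _ _ (fun i => (congrArg (Ideal.Quotient.mk J) (hf i)).trans (hal i))
    fun i => (congrArg (Ideal.Quotient.mk J) (hf' i)).trans (har i)⟩

/-- A unit cocycle of positive degree is a coboundary over a smooth algebra surjective on spectra. -/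
theorem exists_smooth [Module.Finite A B] [Module.Projective A B] [Module.FaithfullyFlat A B] (r : ℕ)
    (z : Additive (T A B (r + 1))ˣ) (hz : dT A B (r + 1) z = 0) :
    ∃ (C : Type u) (_ : CommRing C) (_ : Algebra A C), Algebra.Smooth A C ∧
      Function.Surjective (PrimeSpectrum.comap (algebraMap A C)) ∧
      ∃ y, dU A B C r y = zU A B C (r + 1) z := by
  haveI := finite_T A B r
  haveI := projective_T A B r
  obtain ⟨m, p, σ, -, -, hpσ⟩ := Module.Finite.exists_comp_eq_id_of_projective A (T A B r)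
  obtain ⟨C, _, _, hfp, yC, gl, gr, hyC, hgl, hgr, hom_of, hext⟩ := exists_universal A B r z hpσ
  have hzR : ∀ (R : Type u) [CommRing R] [Algebra A R], dU A B R (r + 1) (zU A B R (r + 1) z) = 0 :=
    fun R _ _ => by rw [← zU_dT, hz, map_zero]
  refine ⟨C, inferInstance, inferInstance, ⟨?_, hfp⟩, fun 𝔭 => ?_, yC, hyC⟩
  · exact formallySmooth_universal A B r z hz hpσ yC gl gr hyC hgl hgr hom_of hext
  · let K := AlgebraicClosure 𝔭.asIdeal.ResidueField
    haveI : Nontrivial (K ⊗[A] B) := Module.FaithfullyFlat.rTensor_nontrivial A B K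
    obtain ⟨𝔮, h𝔮⟩ := Ideal.exists_maximal (K ⊗[A] B)
    letI := Ideal.Quotient.field 𝔮
    let φK : (K ⊗[A] B ⧸ 𝔮) →ₐ[K] K := IsAlgClosed.lift
    let φ : B →ₐ[A] K := (φK.restrictScalars A).comp
      ((Ideal.Quotient.mkₐ A 𝔮).comp Algebra.TensorProduct.includeRight)
    obtain ⟨y, hy⟩ := exists_primitive_of_point A B K φ r (zU A B K (r + 1) z) (hzR K)
    obtain ⟨f, -, -⟩ := hom_of K y _ _ hy (comb_coef A hpσ y.toMul.val) (comb_coef A hpσ y.toMul.inv)
    refine ⟨⟨RingHom.ker f, RingHom.ker_isPrime _⟩, PrimeSpectrum.ext ?_⟩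
    change (RingHom.ker f).comap (algebraMap A C) = 𝔭.asIdeal
    erw [RingHom.comap_ker]
    refine (congrArg RingHom.ker (f.comp_algebraMap)).trans ?_
    rw [IsScalarTower.algebraMap_eq A 𝔭.asIdeal.ResidueField K,
      RingHom.ker_comp_of_injective _ (RingHom.injective _), Ideal.ker_algebraMap_residueField]

end Groth.Agent.Desc19b.SmoothFppf.Alg
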