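import Groth.Agent.Desc19b.SmoothFppf.Core
import Groth.Agent.Desc19b.SmoothFppf.Sol
import Groth.Agent.FlatMorSmoothSect.Scheme
import Groth.Prelude.Def_EtDlF

/-!
# Čech cocycles of units on finite flat coverings are coboundaries étale locally
-/

set_option autoImplicit false
set_option backward.isDefEq.respectTransparency.types false
set_option backward.isDefEq.respectTransparency false
set_option linter.style.haveILetI false
set_option linter.all false
set_option synthInstance.maxHeartbeats 400000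

universe u

open CategoryTheory CategoryTheory.Limits AlgebraicGeometry Opposite TensorProduct

namespace Groth.Agent.Desc19b.SmoothFppf

open Groth.Agent.Desc19b.FppfEt Groth.Agent.SiteCoh AmitsurCech

variable {X : Scheme.{u}}

section Sections

/-- A unit as a section. -/
noncomputable def ofU {Q : Over X} : Additive Γ(Q.left, ⊤)ˣ →+ Sec (EtDl.GmF X) Q where
  toFun u := ULift.up u
  map_zero' := rfl
  map_add' _ _ := rfl

theorem ofU_injective {Q : Over X} : Function.Injective (ofU (X := X) (Q := Q)) := fun a b h =>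
  congrArg ULift.down h

theorem exists_ofU {Q : Over X} (x : Sec (EtDl.GmF X) Q) : ∃ u, ofU u = x := ⟨x.down, rfl⟩

theorem rs_ofU {Q Q' : Over X} (q : Q' ⟶ Q) (u : Additive Γ(Q.left, ⊤)ˣ) :
    rs (EtDl.GmF X) q (ofU u) = ofU ((Units.map q.left.appTop.hom.toMonoidHom).toAdditive u) := rfl

end Sections

variable (A B : Type u) [CommRing A] [CommRing B] [Algebra A B] (h : Spec (CommRingCat.of A) ⟶ X)

/-- The affine base. -/
noncomputable abbrev T₀ : Over X := Over.mk h

/-- The affine covering. -/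
noncomputable abbrev π₀ : Spec (CommRingCat.of B) ⟶ (T₀ A h).left :=
  Spec.map (CommRingCat.ofHom (algebraMap A B))

section Affine

variable {n : ℕ} (a : Fin (n + 1) → PUnit.{u + 2})

/-- An intersection. -/
noncomputable abbrev Int₀ : Over (T₀ A h) := Cech.inter (fam (T₀ A h) (π₀ A B h)) a

/-- The projections of an intersection. -/
noncomputable abbrev pr₀ (k : Fin (n + 1)) : (Int₀ A B h a).left.left ⟶ Spec (CommRingCat.of B) :=
  (Pi.π (fun k => fam (T₀ A h) (π₀ A B h) (a k)) k).left.left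

theorem pr₀_π (k : Fin (n + 1)) : pr₀ A B h a k ≫ π₀ A B h = (Int₀ A B h a).hom.left :=
  congrArg (fun f => f.left) (Over.w (Pi.π (fun k => fam (T₀ A h) (π₀ A B h) (a k)) k))

/-- Functions on an intersection from a tensor power. -/
noncomputable def ψ₀ : T A B n ⟶ Γ((Int₀ A B h a).left.left, ⊤) :=
  WidePushout.desc ((Scheme.ΓSpecIso (CommRingCat.of A)).inv ≫ (Int₀ A B h a).hom.left.appTop)
    (fun k => (Scheme.ΓSpecIso (CommRingCat.of B)).inv ≫ (pr₀ A B h a k).appTop) fun k => by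
      show CommRingCat.ofHom (algebraMap A B) ≫ _ = _
      rw [Scheme.ΓSpecIso_inv_naturality_assoc, ← Scheme.Hom.comp_appTop]
      exact congrArg (fun f => (Scheme.ΓSpecIso (CommRingCat.of A)).inv ≫ f.appTop) (pr₀_π A B h a k)

theorem inj_ψ₀ (k : Fin (n + 1)) :
    inj A B n k ≫ ψ₀ A B h a = (Scheme.ΓSpecIso (CommRingCat.of B)).inv ≫ (pr₀ A B h a k).appTop :=
  WidePushout.ι_desc _ _ _ _ k

theorem hd_ψ₀ :
    hd A B n ≫ ψ₀ A B h a = (Scheme.ΓSpecIso (CommRingCat.of A)).inv ≫ (Int₀ A B h a).hom.left.appTop :=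
  WidePushout.head_desc _ _ _ _

theorem isIso_ψ₀ :
    IsIso (ψ₀ A B h a) ∧ IsIso ((Int₀ A B h a).left.left.toSpecΓ ≫ Spec.map (ψ₀ A B h a)) := by
  let W : Over (T₀ A h) :=
    Over.mk (Over.homMk (Spec.map (hd A B n)) : Over.mk (Spec.map (hd A B n) ≫ h) ⟶ T₀ A h)
  have hw : ∀ k, Spec.map (inj A B n k) ≫ π₀ A B h = Spec.map (hd A B n) := fun k => by
    rw [← Spec.map_comp]
    exact congrArg Spec.map (WidePushout.arrow_ι (fun _ : Fin (n + 1) => CommRingCat.ofHom (algebraMap A B)) k)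
  let j : W ⟶ Int₀ A B h a := Pi.lift (f := fun k => fam (T₀ A h) (π₀ A B h) (a k)) fun k =>
    Over.homMk (Over.homMk (Spec.map (inj A B n k)) (by
      change Spec.map (inj A B n k) ≫ π₀ A B h ≫ h = Spec.map (hd A B n) ≫ h
      rw [← Category.assoc, hw]))
      (Over.OverMorphism.ext (hw k))
  have hj : ∀ k, j.left.left ≫ pr₀ A B h a k = Spec.map (inj A B n k) := fun k =>
    congrArg (fun f : W ⟶ fam (T₀ A h) (π₀ A B h) (a k) => f.left.left)
      (show j ≫ Pi.π (fun k => fam (T₀ A h) (π₀ A B h) (a k)) k = _ from Pi.lift_π _ k)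
  have hjh : j.left.left ≫ (Int₀ A B h a).hom.left = Spec.map (hd A B n) :=
    congrArg (fun f => f.left) (Over.w j)
  have h1 : ψ₀ A B h a ≫ j.left.left.appTop = (Scheme.ΓSpecIso (T A B n)).inv := by
    refine WidePushout.hom_ext _ _ _ (fun k => ?_) ?_
    · show inj A B n k ≫ _ = inj A B n k ≫ _
      rw [← Category.assoc, inj_ψ₀, Category.assoc, ← Scheme.Hom.comp_appTop, hj, ← Scheme.ΓSpecIso_inv_naturality]
    · show hd A B n ≫ _ = hd A B n ≫ _
      rw [← Category.assoc, hd_ψ₀, Category.assoc, ← Scheme.Hom.comp_appTop, hjh, ← Scheme.ΓSpecIso_inv_naturality]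
  let i : (Int₀ A B h a).left.left ⟶ Spec (T A B n) :=
    (Int₀ A B h a).left.left.toSpecΓ ≫ Spec.map (ψ₀ A B h a)
  have h2 : j.left.left ≫ i = 𝟙 _ := by
    simp only [i]
    rw [← Category.assoc, Scheme.toSpecΓ_naturality, Category.assoc, ← Spec.map_comp, h1]
    exact toSpecΓ_SpecMap_ΓSpecIso_inv _
  have hfst : ∀ k, i ≫ Spec.map (inj A B n k) = pr₀ A B h a k := fun k => by
    simp only [i]
    rw [Category.assoc, ← Spec.map_comp, inj_ψ₀, Spec.map_comp, ← Category.assoc, ← Scheme.toSpecΓ_naturality,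
      Category.assoc, toSpecΓ_SpecMap_ΓSpecIso_inv, Category.comp_id]
  have hbase : i ≫ Spec.map (hd A B n) = (Int₀ A B h a).hom.left := by
    rw [← hw 0, ← Category.assoc, hfst, pr₀_π]
  let i' : Int₀ A B h a ⟶ W := Over.homMk (Over.homMk i (by
      change i ≫ Spec.map (hd A B n) ≫ h = (Int₀ A B h a).left.hom
      rw [← Category.assoc, hbase]
      exact Over.w (Int₀ A B h a).hom))
    (Over.OverMorphism.ext hbase)
  have h3 : i' ≫ j = 𝟙 _ := Pi.hom_ext _ _ fun k => by
    rw [Category.assoc, Pi.lift_π, Category.id_comp]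
    exact Over.OverMorphism.ext (Over.OverMorphism.ext (hfst k))
  haveI : IsIso j.left.left := ⟨i, h2, congrArg (fun f => f.left.left) h3⟩
  refine ⟨?_, ⟨j.left.left, congrArg (fun f => f.left.left) h3, h2⟩⟩
  haveI : IsIso (ψ₀ A B h a ≫ j.left.left.appTop) := by rw [h1]; infer_instance
  exact IsIso.of_isIso_comp_right (ψ₀ A B h a) j.left.left.appTop

theorem bijective_ψ₀ : Function.Bijective (ψ₀ A B h a).hom :=
  (ConcreteCategory.isIso_iff_bijective _).1 (isIso_ψ₀ A B h a).1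

theorem δ_ψ₀ (b : Fin (n + 2) → PUnit.{u + 2}) (j : Fin (n + 2)) :
    (arr A B).cechConerve.δ j ≫ ψ₀ A B h b =
      ψ₀ A B h (b ∘ j.succAbove) ≫ (Cech.face (fam (T₀ A h) (π₀ A B h)) b j).left.left.appTop := by
  have hfc : ∀ k, (Cech.face (fam (T₀ A h) (π₀ A B h)) b j).left.left ≫ pr₀ A B h (b ∘ j.succAbove) k =
      pr₀ A B h b (j.succAbove k) := fun k =>
    congrArg (fun f : Int₀ A B h b ⟶ fam (T₀ A h) (π₀ A B h) (b (j.succAbove k)) => f.left.left)
      (show Cech.face (fam (T₀ A h) (π₀ A B h)) b j ≫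
        Pi.π (fun k => fam (T₀ A h) (π₀ A B h) ((b ∘ j.succAbove) k)) k = _ from Pi.lift_π _ k)
  refine WidePushout.hom_ext _ _ _ (fun k => ?_) ?_
  · refine ((Category.assoc _ _ _).symm.trans ((congrArg (· ≫ ψ₀ A B h b) (δ_inj A B n j k)).trans
      (inj_ψ₀ A B h b _))).trans ?_
    refine Eq.trans ?_ ((congrArg (· ≫ _) (inj_ψ₀ A B h (b ∘ j.succAbove) k)).symm.trans (Category.assoc _ _ _))
    rw [Category.assoc, ← Scheme.Hom.comp_appTop, hfc]
  · refine ((Category.assoc _ _ _).symm.trans ((congrArg (· ≫ ψ₀ A B h b) (δ_hd A B n j)).trans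
      (hd_ψ₀ A B h b))).trans ?_
    refine Eq.trans ?_ ((congrArg (· ≫ _) (hd_ψ₀ A B h (b ∘ j.succAbove))).symm.trans (Category.assoc _ _ _))
    rw [Category.assoc, ← Scheme.Hom.comp_appTop]
    exact congrArg (fun f => (Scheme.ΓSpecIso (CommRingCat.of A)).inv ≫ Scheme.Hom.appTop f)
      (congrArg (fun f => f.left) (Over.w (Cech.face (fam (T₀ A h) (π₀ A B h)) b j))).symm

end Affine

/-- Cochains of units from units of tensor powers. -/
noncomputable def toC {n : ℕ} (x : Additive (T A B n)ˣ) : Cn (EtDl.GmF X) (T₀ A h) (π₀ A B h) n :=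
  Cech.mk _ _ fun a => ofU ((Units.map (ψ₀ A B h a).hom.toMonoidHom).toAdditive x)

theorem toC_injective {n : ℕ} : Function.Injective (toC A B h (n := n)) := fun x y hxy => by
  have h1 := congrArg (Cech.ev (FppfSS.psh (EtFppf.J X) (EtDl.GmF X)) (fam (T₀ A h) (π₀ A B h)) default) hxy
  rw [toC, toC, Cech.ev_mk, Cech.ev_mk] at h1
  exact congrArg Additive.ofMul (Units.ext ((bijective_ψ₀ A B h default).1
    (congrArg (fun v => (Additive.toMul v).val) (ofU_injective h1))))

theorem exists_toC {n : ℕ} (c : Cn (EtDl.GmF X) (T₀ A h) (π₀ A B h) n) : ∃ x, toC A B h x = c := by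
  obtain ⟨v, hv⟩ := exists_ofU
    (Cech.ev (FppfSS.psh (EtFppf.J X) (EtDl.GmF X)) (fam (T₀ A h) (π₀ A B h)) default c)
  let e := RingEquiv.ofBijective (ψ₀ A B h (default : Fin (n + 1) → PUnit.{u + 2})).hom (bijective_ψ₀ A B h _)
  refine ⟨Additive.ofMul (Units.map e.symm.toMonoidHom v.toMul), cn_ext _ _ ?_⟩
  rw [toC, Cech.ev_mk, ← hv]
  exact congrArg ofU (congrArg Additive.ofMul (Units.ext (e.apply_symm_apply _)))

theorem δ_toC {n : ℕ} (x : Additive (T A B n)ˣ) :
    δ (EtDl.GmF X) (T₀ A h) (π₀ A B h) n (toC A B h x) = toC A B h (Alg.dT A B n x) := by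
  refine Cech.ext _ _ fun a => ?_
  rw [Cech.ev_d, toC, toC, Cech.ev_mk, Alg.dT, map_sum, map_sum]
  refine Finset.sum_congr rfl fun j _ => ?_
  rw [map_zsmul, map_zsmul, Cech.ev_mk]
  refine congrArg (fun y => (-1 : ℤ) ^ (j : ℕ) • y) ?_
  exact congrArg ofU (congrArg Additive.ofMul (Units.ext
    (congrArg (fun f => f.hom x.toMul.val) (δ_ψ₀ A B h a j)).symm))

theorem toC_zero {n : ℕ} : toC A B h (0 : Additive (T A B n)ˣ) = 0 :=
  Cech.ext _ _ fun a => by rw [toC, Cech.ev_mk, map_zero, map_zero, map_zero]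

section Relative

variable {T' : Over X} (g : T' ⟶ T₀ A h)

/-- The ring of functions on the new base. -/
abbrev R' : Type u := Γ(T'.left, ⊤)

/-- Its structure map. -/
noncomputable abbrev φ' : CommRingCat.of A ⟶ Γ(T'.left, ⊤) :=
  (Scheme.ΓSpecIso (CommRingCat.of A)).inv ≫ g.left.appTop

variable [Algebra A Γ(T'.left, ⊤)] (hg : CommRingCat.ofHom (algebraMap A Γ(T'.left, ⊤)) = φ' A h g)

/-- The morphism between intersections. -/
noncomputable abbrev L' {n : ℕ} (a : Fin (n + 1) → PUnit.{u + 2}) :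
    (Over.map g).obj (Cech.inter (fam T' (pullback.fst g.left (π₀ A B h))) a) ⟶ Int₀ A B h a :=
  Pi.lift (f := fun k => fam (T₀ A h) (π₀ A B h) (a k)) fun k =>
    (tup (Mor.bc g (π₀ A B h)) (Cech.taut (fam T' (pullback.fst g.left (π₀ A B h))) a) k).2

theorem L'_hom {n : ℕ} (a : Fin (n + 1) → PUnit.{u + 2}) :
    (L' A B h g a).left.left ≫ (Int₀ A B h a).hom.left =
      (Cech.inter (fam T' (pullback.fst g.left (π₀ A B h))) a).hom.left ≫ g.left :=
  congrArg (fun f => f.left) (Over.w (L' A B h g a))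

include hg in
theorem exists_ψ' {n : ℕ} (a : Fin (n + 1) → PUnit.{u + 2}) :
    ∃ ψ : Alg.RT A B Γ(T'.left, ⊤) n →+*
        Γ((Cech.inter (fam T' (pullback.fst g.left (π₀ A B h))) a).left.left, ⊤),
      (∀ x, ψ (x ⊗ₜ 1) = (Cech.inter (fam T' (pullback.fst g.left (π₀ A B h))) a).hom.left.appTop x) ∧
      ∀ t, ψ (1 ⊗ₜ t) = (L' A B h g a).left.left.appTop (ψ₀ A B h a t) := by
  let I' := (Cech.inter (fam T' (pullback.fst g.left (π₀ A B h))) a)
  letI : Algebra A Γ(I'.left.left, ⊤) := (φ' A h g ≫ I'.hom.left.appTop).hom.toAlgebra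
  let α : Γ(T'.left, ⊤) →ₐ[A] Γ(I'.left.left, ⊤) :=
    { I'.hom.left.appTop.hom with
      commutes' := fun x => congrArg (fun f => (f ≫ I'.hom.left.appTop).hom x) hg }
  let β : T A B n →ₐ[A] Γ(I'.left.left, ⊤) :=
    { (ψ₀ A B h a ≫ (L' A B h g a).left.left.appTop).hom with
      commutes' := fun x => congrArg (fun f => f.hom x)
        (show hd A B n ≫ ψ₀ A B h a ≫ (L' A B h g a).left.left.appTop = φ' A h g ≫ I'.hom.left.appTop by
          rw [← Category.assoc, hd_ψ₀, Category.assoc, ← Scheme.Hom.comp_appTop, L'_hom, Scheme.Hom.comp_appTop,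
            Category.assoc]) }
  refine ⟨(Algebra.TensorProduct.lift α β fun _ _ => Commute.all _ _).toRingHom, fun x => ?_, fun t => ?_⟩
  · exact (Algebra.TensorProduct.lift_tmul _ _ _ x 1).trans (by rw [map_one, mul_one]; rfl)
  · exact (Algebra.TensorProduct.lift_tmul _ _ _ 1 t).trans (by rw [map_one, one_mul]; rfl)

/-- Functions on the new intersections. -/
noncomputable def ψ' {n : ℕ} (a : Fin (n + 1) → PUnit.{u + 2}) :
    Alg.RT A B Γ(T'.left, ⊤) n →+* Γ((Cech.inter (fam T' (pullback.fst g.left (π₀ A B h))) a).left.left, ⊤) :=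
  (exists_ψ' A B h g hg a).choose

/-- Cochains on the new base from units of tensor powers with coefficients. -/
noncomputable def toC' {n : ℕ} (x : Alg.U A B Γ(T'.left, ⊤) n) :
    Cn (EtDl.GmF X) T' (pullback.fst g.left (π₀ A B h)) n :=
  Cech.mk _ _ fun a => ofU ((Units.map (ψ' A B h g hg a).toMonoidHom).toAdditive x)

theorem face_ψ' {n : ℕ} (a : Fin (n + 2) → PUnit.{u + 2}) (j : Fin (n + 2))
    (x : Alg.RT A B Γ(T'.left, ⊤) n) :
    ψ' A B h g hg a (Alg.face A B Γ(T'.left, ⊤) n j x) =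
      (Cech.face (fam T' (pullback.fst g.left (π₀ A B h))) a j).left.left.appTop
        (ψ' A B h g hg (a ∘ j.succAbove) x) := by
  let fc := Cech.face (fam T' (pullback.fst g.left (π₀ A B h))) a j
  have hx : ∀ x t, ψ' A B h g hg a (Alg.face A B Γ(T'.left, ⊤) n j (x ⊗ₜ t)) =
      fc.left.left.appTop (ψ' A B h g hg (a ∘ j.succAbove) (x ⊗ₜ t)) := fun x t => by
    rw [Alg.face_tmul, ← mul_one x, ← one_mul (δA A B n j t), ← Algebra.TensorProduct.tmul_mul_tmul, map_mul]
    conv_rhs => rw [← one_mul t, ← Algebra.TensorProduct.tmul_mul_tmul, map_mul, map_mul]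
    refine congrArg₂ (· * ·) ?_ ?_
    · rw [ψ', (exists_ψ' A B h g hg a).choose_spec.1, ψ', (exists_ψ' A B h g hg _).choose_spec.1]
      exact congrArg (fun f => (Scheme.Hom.appTop f).hom x) (congrArg (fun f => f.left) (Over.w fc)).symm
    · rw [ψ', (exists_ψ' A B h g hg a).choose_spec.2, ψ', (exists_ψ' A B h g hg _).choose_spec.2]
      refine (congrArg ((L' A B h g a).left.left.appTop)
        (congrArg (fun f => f.hom t) (δ_ψ₀ A B h a j))).trans ?_
      have : (Over.map g).map fc ≫ L' A B h g (a ∘ j.succAbove) =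
          L' A B h g a ≫ Cech.face (fam (T₀ A h) (π₀ A B h)) a j := Pi.hom_ext _ _ fun k => by
        simp only [fc, Cech.face, L', Category.assoc, Pi.lift_π, Pi.lift_π_assoc]
        simp [tup]
        exact (Category.assoc _ _ _).symm.trans (congrArg (· ≫ _)
          (((Over.map g).map_comp _ _).symm.trans (congrArg (Over.map g).map (Pi.lift_π _ k))))
      exact (congrArg (fun f => (Scheme.Hom.appTop f.left.left).hom (ψ₀ A B h (a ∘ j.succAbove) t)) this).symm
  induction x using TensorProduct.induction_on with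
  | zero => simp
  | add x y hxx hyy => simp only [map_add, hxx, hyy]
  | tmul x t => exact hx x t

theorem δ_toC' {n : ℕ} (x : Alg.U A B Γ(T'.left, ⊤) n) :
    δ (EtDl.GmF X) T' (pullback.fst g.left (π₀ A B h)) n (toC' A B h g hg x) =
      toC' A B h g hg (Alg.dU A B Γ(T'.left, ⊤) n x) := by
  refine Cech.ext _ _ fun a => ?_
  rw [Cech.ev_d, toC', toC', Cech.ev_mk, Alg.dU_apply, map_sum, map_sum]
  refine Finset.sum_congr rfl fun j _ => ?_
  rw [map_zsmul, map_zsmul, Cech.ev_mk]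
  refine congrArg (fun y => (-1 : ℤ) ^ (j : ℕ) • y) ?_
  exact congrArg ofU (congrArg Additive.ofMul (Units.ext (face_ψ' A B h g hg a j x.toMul.val).symm))

theorem toC'_zU {n : ℕ} (z : Additive (T A B n)ˣ) :
    toC' A B h g hg (Alg.zU A B Γ(T'.left, ⊤) n z) = resC (Mor.bc g (π₀ A B h)) (EtDl.GmF X) (toC A B h z) := by
  refine Cech.ext _ _ fun a => ?_
  rw [toC', resC, Cech.ev_mk, Cech.ev_mk]
  change _ = rs (EtDl.GmF X) (L' A B h g a).left (Cech.ev _ _ a (toC A B h z))
  rw [toC, Cech.ev_mk]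
  exact congrArg ofU (congrArg Additive.ofMul (Units.ext ((exists_ψ' A B h g hg a).choose_spec.2 _)))

end Relative

/-- Unit cocycles on finite coverings are coboundaries étale locally. -/
theorem goodCoeff_GmF (X : Scheme.{u}) : GoodCoeff (EtDl.GmF X) := by
  intro T V π _ _ _ _ r z hz t
  obtain ⟨_, ⟨U, (hU : IsAffineOpen U), rfl⟩, htU, -⟩ := T.left.isBasis_affineOpens.exists_subset_of_mem_open
    (Set.mem_univ t) isOpen_univ
  have hV : IsAffineOpen (π ⁻¹ᵁ U) := hU.preimage π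
  let A := Γ(T.left, U)
  let B := Γ(V, π ⁻¹ᵁ U)
  let φ := π.appLE U (π ⁻¹ᵁ U) le_rfl
  algebraize [φ.hom]
  haveI : Module.Finite A B := by
    have := IsFinite.finite_app π U hU
    rw [← π.appLE_eq_app] at this
    exact this
  haveI : Module.Flat A B := Flat.flat_appLE π hU hV le_rfl
  haveI : Algebra.FinitePresentation A B :=
    LocallyOfFinitePresentation.finitePresentation_appLE π hU hV le_rfl
  haveI : Module.FinitePresentation A B := Module.FinitePresentation.of_finite_of_finitePresentation A B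
  haveI : Module.Projective A B := Module.Flat.projective_of_finitePresentation
  let h := hU.fromSpec ≫ T.hom
  have hsq : Spec.map φ ≫ hU.fromSpec = hV.fromSpec ≫ π := hU.SpecMap_appLE_fromSpec π hV le_rfl
  haveI : Module.FaithfullyFlat A B := by
    refine Module.FaithfullyFlat.of_comap_surjective fun P => ?_
    obtain ⟨x, hx⟩ := π.surjective (hU.fromSpec P)
    have hxU : x ∈ π ⁻¹ᵁ U := by
      show π x ∈ U
      rw [hx]
      exact hU.range_fromSpec.subset ⟨P, rfl⟩
    refine ⟨hV.primeIdealOf ⟨x, hxU⟩, hU.fromSpec.isOpenEmbedding.injective ?_⟩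
    show (Spec.map φ ≫ hU.fromSpec) (hV.primeIdealOf ⟨x, hxU⟩) = hU.fromSpec P
    rw [hsq, Scheme.Hom.comp_apply, hV.fromSpec_primeIdealOf, hx]
  let g₀ : T₀ A h ⟶ T := Over.homMk hU.fromSpec
  let m₀ : Mor (T₀ A h) T (π₀ A B h) π := ⟨g₀, hV.fromSpec, hsq.symm⟩
  obtain ⟨z₀, hz₀⟩ := exists_toC A B h (resC m₀ (EtDl.GmF X) z)
  have hdz₀ : Alg.dT A B (r + 1) z₀ = 0 := toC_injective A B h (by
    rw [← δ_toC, hz₀, ← resC_δ, hz, resC_zero, toC_zero])
  obtain ⟨C, _, _, hC, hsurj, y, hy⟩ := Alg.exists_smooth A B r z₀ hdz₀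
  let f : Spec (CommRingCat.of C) ⟶ Spec (CommRingCat.of A) := Spec.map (CommRingCat.ofHom (algebraMap A C))
  haveI : Smooth f := (HasRingHomProperty.Spec_iff (P := @Smooth)).2 (RingHom.smooth_algebraMap.2 hC)
  let t₀ : Spec (CommRingCat.of A) := hU.primeIdealOf ⟨t, htU⟩
  obtain ⟨x, hx⟩ := hsurj t₀
  obtain ⟨S', e, s', he, hs', σ, hσ⟩ := FlatMorSmoothSect.exists_section_etale_locally f x
  let T' : Over X := Over.mk (e ≫ h)
  let g : T' ⟶ T₀ A h := Over.homMk e
  letI : Algebra A Γ(T'.left, ⊤) := (φ' A h g).hom.toAlgebra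
  have hg : CommRingCat.ofHom (algebraMap A Γ(T'.left, ⊤)) = φ' A h g := rfl
  let κ : C →ₐ[A] Γ(T'.left, ⊤) :=
    { ((Scheme.ΓSpecIso (CommRingCat.of C)).inv ≫ σ.appTop).hom with
      commutes' := fun a => congrArg (fun F => F.hom a)
        (show CommRingCat.ofHom (algebraMap A C) ≫ (Scheme.ΓSpecIso (CommRingCat.of C)).inv ≫ σ.appTop =
          φ' A h g by
          rw [Scheme.ΓSpecIso_inv_naturality_assoc, ← Scheme.Hom.comp_appTop, hσ]
          rfl) }
  haveI : IsFinite (π₀ A B h) := (IsFinite.SpecMap_iff _).2 (RingHom.finite_algebraMap.2 inferInstance)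
  haveI : Flat (π₀ A B h) := (HasRingHomProperty.Spec_iff (P := @Flat)).2
    (RingHom.flat_algebraMap_iff.2 inferInstance)
  haveI : LocallyOfFinitePresentation (π₀ A B h) := (HasRingHomProperty.Spec_iff
    (P := @LocallyOfFinitePresentation)).2 (RingHom.finitePresentation_algebraMap.2 inferInstance)
  haveI : Surjective (π₀ A B h) := ⟨PrimeSpectrum.comap_surjective_of_faithfullyFlat⟩
  haveI : Etale e := he
  haveI : IsOpenImmersion hU.fromSpec := inferInstance
  refine ⟨T', _, pullback.fst g.left (π₀ A B h), (Mor.bc g (π₀ A B h)).comp m₀,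
    inferInstanceAs (Etale (e ≫ hU.fromSpec)), ⟨s', ?_⟩, MorphismProperty.pullback_fst _ _ ‹IsFinite (π₀ A B h)›,
    MorphismProperty.pullback_fst _ _ ‹Flat (π₀ A B h)›,
    MorphismProperty.pullback_fst _ _ ‹LocallyOfFinitePresentation (π₀ A B h)›,
    MorphismProperty.pullback_fst _ _ ‹Surjective (π₀ A B h)›,
    toC' A B h g hg (Alg.chgU A B κ r y), ?_⟩
  · show hU.fromSpec (e s') = t
    rw [hs', show f x = t₀ from hx]
    exact hU.fromSpec_primeIdealOf ⟨t, htU⟩
  · rw [δ_toC', ← Alg.chgU_dU, hy, Alg.chgU_zU, toC'_zU, hz₀, resC_comp]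

end Groth.Agent.Desc19b.SmoothFppf
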