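import Groth.Agent.Desc19b.SmoothFppf.PtsKernel
import Groth.Agent.H8Lim.Unramified

/-!
# Lifts to disjoint unions of opens and equalizers of points
-/

set_option autoImplicit false
set_option backward.isDefEq.respectTransparency.types false
set_option backward.isDefEq.respectTransparency false
set_option linter.style.haveILetI false
set_option linter.all false
set_option synthInstance.maxHeartbeats 400000

universe u

open CategoryTheory CategoryTheory.Limits AlgebraicGeometry Opposite TensorProduct TopologicalSpace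

namespace Groth.Agent.Desc19b.SmoothFppf.Pts

open Alg AmitsurCech

section Coprod

variable {G : Scheme.{u}} {ι : Type u} (U : ι → G.Opens)

/-- The disjoint union of opens. -/
noncomputable abbrev Wsum : Scheme.{u} := ∐ fun i => (U i).toScheme

/-- Its map to the scheme. -/
noncomputable abbrev qW : Wsum U ⟶ G := Sigma.desc fun i => (U i).ι

theorem exists_lift_Wsum {Z : Scheme.{u}} (v : Z ⟶ G) (O : ι → Z.Opens)
    (hd : ∀ i j, i ≠ j → Disjoint (O i) (O j)) (hc : ∀ z, ∃ i, z ∈ O i) (hv : ∀ i, ∀ z ∈ O i, v z ∈ U i) :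
    ∃ σ : Z ⟶ Wsum U, σ ≫ qW U = v ∧ ∀ i, ∀ z ∈ O i, σ z ∈ Set.range (Sigma.ι (fun i => (U i).toScheme) i) := by
  let 𝒰 := Z.openCoverOfIsOpenCover O (top_le_iff.1 fun z _ => Opens.mem_iSup.2 (hc z))
  let l : ∀ i, (O i).toScheme ⟶ (U i).toScheme := fun i =>
    IsOpenImmersion.lift (U i).ι ((O i).ι ≫ v) (by
      rw [Scheme.Opens.range_ι]
      rintro _ ⟨z, rfl⟩
      exact hv i z.1 z.2)
  let σ : Z ⟶ Wsum U := 𝒰.glueMorphisms (fun i => l i ≫ Sigma.ι (fun i => (U i).toScheme) i) fun i j => by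
    by_cases hij : i = j
    · subst hij
      haveI : Mono (𝒰.f i) := inferInstanceAs (Mono (O i).ι)
      rw [(cancel_mono (𝒰.f i)).1 (pullback.condition (f := 𝒰.f i) (g := 𝒰.f i))]
    · haveI : IsEmpty (pullback (𝒰.f i) (𝒰.f j) : Scheme.{u}) := ⟨fun x => by
        have e : 𝒰.f i (pullback.fst (𝒰.f i) (𝒰.f j) x) = 𝒰.f j (pullback.snd (𝒰.f i) (𝒰.f j) x) :=
          congrArg (fun k : pullback (𝒰.f i) (𝒰.f j) ⟶ Z => k x) pullback.condition
        exact Set.disjoint_left.1 (Opens.coe_disjoint.2 (hd i j hij)) (pullback.fst (𝒰.f i) (𝒰.f j) x).2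
          (Eq.subst (motive := fun z : Z => z ∈ (O j : Set Z)) e.symm (pullback.snd (𝒰.f i) (𝒰.f j) x).2)⟩
      exact isInitialOfIsEmpty.hom_ext _ _
  have hσ : ∀ i, (O i).ι ≫ σ = l i ≫ Sigma.ι (fun i => (U i).toScheme) i := fun i => 𝒰.ι_glueMorphisms _ _ i
  refine ⟨σ, 𝒰.hom_ext _ _ fun i => ?_, fun i z hz => ⟨l i ⟨z, hz⟩, ?_⟩⟩
  · show (O i).ι ≫ σ ≫ qW U = (O i).ι ≫ v
    rw [← Category.assoc, hσ, Category.assoc, Sigma.ι_desc, IsOpenImmersion.lift_fac]
  · exact (congrArg (fun k : (O i).toScheme ⟶ Wsum U => k ⟨z, hz⟩) (hσ i)).symm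

theorem ext_Wsum {Z : Scheme.{u}} (σ σ' : Z ⟶ Wsum U) (h : σ ≫ qW U = σ' ≫ qW U)
    (hi : ∀ z, ∃ i, σ z ∈ Set.range (Sigma.ι (fun i => (U i).toScheme) i) ∧
      σ' z ∈ Set.range (Sigma.ι (fun i => (U i).toScheme) i)) : σ = σ' := by
  refine Scheme.hom_ext_of_forall σ σ' fun z => ?_
  obtain ⟨i, h1, h2⟩ := hi z
  let e := Sigma.ι (fun i => (U i).toScheme) i
  let O : Z.Opens := σ ⁻¹ᵁ e.opensRange ⊓ σ' ⁻¹ᵁ e.opensRange
  refine ⟨O, ⟨h1, h2⟩, ?_⟩
  let a := IsOpenImmersion.lift e (O.ι ≫ σ) (by rintro _ ⟨w, rfl⟩; exact w.2.1)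
  let b := IsOpenImmersion.lift e (O.ι ≫ σ') (by rintro _ ⟨w, rfl⟩; exact w.2.2)
  have ha : a ≫ e = O.ι ≫ σ := IsOpenImmersion.lift_fac _ _ _
  have hb : b ≫ e = O.ι ≫ σ' := IsOpenImmersion.lift_fac _ _ _
  have hab : a = b := (cancel_mono (U i).ι).1 (by
    rw [← show e ≫ qW U = (U i).ι from Sigma.ι_desc _ _, reassoc_of% ha, reassoc_of% hb, h])
  rw [← ha, ← hb, hab]

theorem exists_component (w : Wsum U) : ∃ i, w ∈ Set.range (Sigma.ι (fun i => (U i).toScheme) i) := by
  obtain ⟨⟨i, x⟩, hx⟩ := (sigmaMk fun i => (U i).toScheme).surjective w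
  exact ⟨i, x, (sigmaMk_mk (fun i => (U i).toScheme) i x).symm.trans hx⟩

theorem qW_mem (i : ι) (w : Wsum U) (h : w ∈ Set.range (Sigma.ι (fun i => (U i).toScheme) i)) :
    qW U w ∈ U i := by
  obtain ⟨x, rfl⟩ := h
  rw [← Scheme.Hom.comp_apply, Sigma.ι_desc]
  exact x.2

theorem component_unique {i j : ι} {w : Wsum U} (hi : w ∈ Set.range (Sigma.ι (fun i => (U i).toScheme) i))
    (hj : w ∈ Set.range (Sigma.ι (fun i => (U i).toScheme) j)) : i = j := by
  by_contra hne
  exact Set.disjoint_left.1 (Opens.coe_disjoint.2 (disjoint_opensRange_sigmaι (fun i => (U i).toScheme) i j hne)) hi hj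

theorem exists_lift_of_thickening {Z Z₀ : Scheme.{u}} (c : Z₀ ⟶ Z) (hc : Topology.IsClosedEmbedding c)
    (hcs : Function.Surjective c) (σ₀ : Z₀ ⟶ Wsum U) (v : Z ⟶ G) (hv : c ≫ v = σ₀ ≫ qW U) :
    ∃ σ : Z ⟶ Wsum U, σ ≫ qW U = v ∧ c ≫ σ = σ₀ := by
  have hopen : IsOpenMap c := fun s hs => by
    rw [← compl_compl s, Set.image_compl_eq ⟨hc.injective, hcs⟩]
    exact (hc.isClosedMap _ hs.isClosed_compl).isOpen_compl
  let O : ι → Z.Opens := fun i =>
    ⟨c '' (σ₀ ⁻¹' Set.range (Sigma.ι (fun i => (U i).toScheme) i)),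
      hopen _ ((Sigma.ι (fun i => (U i).toScheme) i).isOpenEmbedding.isOpen_range.preimage σ₀.continuous)⟩
  obtain ⟨σ, hσ, hO⟩ := exists_lift_Wsum U v O (fun i j hij => by
      rw [← Opens.coe_disjoint, Set.disjoint_left]
      rintro _ ⟨x, hx, rfl⟩ ⟨y, hy, hyx⟩
      rw [hc.injective hyx] at hy
      exact hij (component_unique U hx hy))
    (fun z => by
      obtain ⟨x, rfl⟩ := hcs z
      obtain ⟨i, hi⟩ := exists_component U (σ₀ x)
      exact ⟨i, x, hi, rfl⟩)
    (by
      rintro i _ ⟨x, hx, rfl⟩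
      rw [← Scheme.Hom.comp_apply, hv, Scheme.Hom.comp_apply]
      exact qW_mem U i _ hx)
  refine ⟨σ, hσ, ext_Wsum U _ _ (by rw [Category.assoc, hσ, hv]) fun x => ?_⟩
  obtain ⟨i, hi⟩ := exists_component U (σ₀ x)
  exact ⟨i, hO i _ ⟨x, hi, rfl⟩, hi⟩

end Coprod

section Equalizer

variable {A : Type u} [CommRing A] {G : Scheme.{u}} (p : G ⟶ Spec (CommRingCat.of A)) [LocallyOfFiniteType p]

/-- The equations defining the locus where two points agree, near a fibre where they agree. -/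
theorem exists_equations (B : Type u) [CommRing B] [Algebra A B] [Module.Finite A B] [Module.Projective A B]
    (n : ℕ) {C₀ : Type u} [CommRing C₀] [Algebra A C₀]
    (a b : Spec (CommRingCat.of (RT A B C₀ n)) ⟶ G) (hab : a ≫ p = b ≫ p)
    {K : Type u} [Field K] [Algebra A K] (ψK : C₀ →ₐ[A] K)
    (hK : Spec.map (CommRingCat.ofHom (chg A B ψK n).toRingHom) ≫ a =
      Spec.map (CommRingCat.ofHom (chg A B ψK n).toRingHom) ≫ b) :
    ∃ (f : C₀) (I : Ideal (RT A B (Localization.Away f) n)), ψK f ≠ 0 ∧ I.FG ∧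
      ∀ (R : Type u) [CommRing R] [Algebra A R] (ψ : Localization.Away f →ₐ[A] R),
        (∀ x ∈ I, chg A B ψ n x = 0) ↔
          Spec.map (CommRingCat.ofHom (chg A B (ψ.comp (IsScalarTower.toAlgHom A C₀ (Localization.Away f))) n).toRingHom) ≫ a =
            Spec.map (CommRingCat.ofHom (chg A B (ψ.comp (IsScalarTower.toAlgHom A C₀ (Localization.Away f))) n).toRingHom) ≫ b := by
  haveI := finite_T A B n
  let Z := Spec (CommRingCat.of (RT A B C₀ n))
  let l : Z ⟶ pullback p p := pullback.lift a b hab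
  haveI : LocallyOfFinitePresentation (pullback.diagonal p) := H8Lim.locallyOfFinitePresentation_diagonal p
  let e := pullback.fst l (pullback.diagonal p)
  haveI : IsImmersion e := MorphismProperty.pullback_fst _ _ inferInstance
  haveI : LocallyOfFinitePresentation e := MorphismProperty.pullback_fst _ _ inferInstance
  have hfac : ∀ {Q : Scheme.{u}} (w : Q ⟶ Z), w ≫ a = w ≫ b ↔ ∃ y, y ≫ e = w := fun {Q} w => by
    constructor
    · intro hw
      exact ⟨pullback.lift w (w ≫ a) (pullback.hom_ext (by simp [l]) (by simp [l, hw])), pullback.lift_fst _ _ _⟩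
    · rintro ⟨y, rfl⟩
      have h1 := congrArg (fun k => y ≫ k ≫ pullback.fst p p) (pullback.condition (f := l) (g := pullback.diagonal p))
      have h2 := congrArg (fun k => y ≫ k ≫ pullback.snd p p) (pullback.condition (f := l) (g := pullback.diagonal p))
      simp only [l, Category.assoc, pullback.lift_fst, pullback.lift_snd, pullback.diagonal_fst, pullback.diagonal_snd,
        Category.comp_id] at h1 h2
      rw [Category.assoc, Category.assoc, h1, h2]
  letI : Algebra C₀ (RT A B C₀ n) := Algebra.TensorProduct.leftAlgebra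
  let x₀ : PrimeSpectrum C₀ := ⟨RingHom.ker ψK, RingHom.ker_isPrime _⟩
  have hfib : ∀ q : Z, (PrimeSpectrum.comap (algebraMap C₀ (RT A B C₀ n))) q = x₀ → q ∈ Set.range e := by
    intro q hq
    let eK : RT A B C₀ n →ₐ[A] RT A B K n := chg A B ψK n
    let F₁ := q.asIdeal.ResidueField
    let β : RT A B C₀ n →+* F₁ := algebraMap _ F₁
    haveI : x₀.asIdeal.IsPrime := x₀.isPrime
    let k₀ := x₀.asIdeal.ResidueField
    let αK : k₀ →+* K := Ideal.ResidueField.lift x₀.asIdeal ψK.toRingHom le_rfl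
      fun x hx => isUnit_iff_ne_zero.2 hx
    have hker : ∀ c, c ∈ x₀.asIdeal ↔ β (algebraMap C₀ _ c) = 0 := fun c => by
      rw [← hq, ← RingHom.mem_ker, Ideal.ker_algebraMap_residueField]
      rfl
    let αF : k₀ →+* F₁ := Ideal.ResidueField.lift x₀.asIdeal (β.comp (algebraMap C₀ _))
      (fun c hc => RingHom.mem_ker.2 ((hker c).1 hc)) fun c hc => isUnit_iff_ne_zero.2 fun h0 => hc ((hker c).2 h0)
    letI : Algebra k₀ K := αK.toAlgebra
    letI : Algebra k₀ F₁ := αF.toAlgebra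
    obtain ⟨L, _, a₁, b₁, hcomm⟩ : ∃ (L : Type u) (_ : Field L) (a₁ : K →+* L) (b₁ : F₁ →+* L),
        ∀ c : C₀, a₁ (ψK c) = b₁ (β (algebraMap C₀ _ c)) := by
      obtain ⟨𝔪, h𝔪⟩ := Ideal.exists_maximal (K ⊗[k₀] F₁)
      refine ⟨(K ⊗[k₀] F₁) ⧸ 𝔪, Ideal.Quotient.field 𝔪,
        (Ideal.Quotient.mk 𝔪).comp Algebra.TensorProduct.includeLeftRingHom,
        (Ideal.Quotient.mk 𝔪).comp Algebra.TensorProduct.includeRight.toRingHom, fun c => ?_⟩
      have h1 : αK (algebraMap C₀ k₀ c) = ψK c := Ideal.ResidueField.lift_algebraMap _ _ _ _ _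
      have h2 : αF (algebraMap C₀ k₀ c) = β (algebraMap C₀ _ c) := Ideal.ResidueField.lift_algebraMap _ _ _ _ _
      rw [← h1, ← h2]
      refine congrArg (Ideal.Quotient.mk 𝔪) ?_
      exact ((Algebra.TensorProduct.includeLeft : K →ₐ[k₀] K ⊗[k₀] F₁).commutes (algebraMap C₀ k₀ c)).trans
        ((Algebra.TensorProduct.includeRight : F₁ →ₐ[k₀] K ⊗[k₀] F₁).commutes (algebraMap C₀ k₀ c)).symm
    letI : Algebra A L := (a₁.comp (algebraMap A K)).toAlgebra
    let aA : K →ₐ[A] L := { a₁ with commutes' := fun r => rfl }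
    let bA : T A B n →ₐ[A] L :=
      { (b₁.comp β).comp (Algebra.TensorProduct.includeRight : T A B n →ₐ[A] RT A B C₀ n).toRingHom with
        commutes' := fun r => by
          show b₁ (β ((1 : C₀) ⊗ₜ algebraMap A (T A B n) r)) = a₁ (algebraMap A K r)
          rw [← ψK.commutes r, hcomm]
          refine congrArg (fun v => b₁ (β v)) ?_
          rw [← Algebra.TensorProduct.includeRight_apply (R := A) (A := C₀), AlgHom.commutes]
          rfl }
    let γ : RT A B K n →ₐ[A] L := Algebra.TensorProduct.lift aA bA fun _ _ => Commute.all _ _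
    have hγ : γ.toRingHom.comp eK.toRingHom = b₁.comp β := by
      refine RingHom.ext fun x => ?_
      induction x using TensorProduct.induction_on with
      | zero => simp
      | add a b ha hb => simp only [map_add, ha, hb]
      | tmul c t =>
        show γ (chg A B ψK n (c ⊗ₜ t)) = b₁ (β (c ⊗ₜ t))
        rw [show chg A B ψK n (c ⊗ₜ t) = ψK c ⊗ₜ t by simp [chg]]
        refine (Algebra.TensorProduct.lift_tmul _ _ _ _ _).trans ?_
        show a₁ (ψK c) * b₁ (β ((1 : C₀) ⊗ₜ t)) = _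
        rw [hcomm, ← map_mul, ← map_mul]
        refine congrArg (fun v => b₁ (β v)) ?_
        show (c ⊗ₜ 1) * ((1 : C₀) ⊗ₜ t) = _
        rw [Algebra.TensorProduct.tmul_mul_tmul, mul_one, one_mul]
    obtain ⟨q', hq'⟩ : ∃ q' : PrimeSpectrum (RT A B K n), PrimeSpectrum.comap eK.toRingHom q' = q := by
      refine ⟨⟨RingHom.ker γ.toRingHom, RingHom.ker_isPrime _⟩, PrimeSpectrum.ext ?_⟩
      show (RingHom.ker γ.toRingHom).comap eK.toRingHom = q.asIdeal
      rw [RingHom.comap_ker, hγ, RingHom.ker_comp_of_injective _ b₁.injective]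
      exact Ideal.ker_algebraMap_residueField _
    obtain ⟨y, hy⟩ := (hfac _).1 hK
    exact ⟨y q', (congrArg (fun k : Spec (CommRingCat.of (RT A B K n)) ⟶ Z => k q') hy).trans hq'⟩
  let O := e.coborderRange
  have hclosed : IsClosedMap (PrimeSpectrum.comap (algebraMap C₀ (RT A B C₀ n))) :=
    PrimeSpectrum.isClosedMap_comap_of_isIntegral _ (Algebra.IsIntegral.isIntegral)
  let F := PrimeSpectrum.comap (algebraMap C₀ (RT A B C₀ n)) '' (O : Set Z)ᶜ
  have hx₀ : x₀ ∈ Fᶜ := by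
    rintro ⟨q, hq, hqx⟩
    exact hq (subset_coborder (hfib q hqx))
  obtain ⟨_, ⟨f, rfl⟩, hfx, hfF⟩ := PrimeSpectrum.isTopologicalBasis_basic_opens.exists_subset_of_mem_open
    hx₀ (hclosed _ O.isOpen.isClosed_compl).isOpen_compl
  let C₁ := Localization.Away f
  let i₁ : C₀ →ₐ[A] C₁ := IsScalarTower.toAlgHom A C₀ C₁
  let u : Spec (CommRingCat.of (RT A B C₁ n)) ⟶ Z := Spec.map (CommRingCat.ofHom (chg A B i₁ n).toRingHom)
  have hu : ∀ q, u q ∈ O := fun q => by
    by_contra hq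
    have hmem : PrimeSpectrum.comap (algebraMap C₀ (RT A B C₀ n)) (u q) ∈ F := ⟨_, hq, rfl⟩
    refine hfF (show f ∉ (PrimeSpectrum.comap (algebraMap C₀ (RT A B C₀ n)) (u q)).asIdeal from fun hfq => ?_) hmem
    have hunit : IsUnit (chg A B i₁ n (algebraMap C₀ (RT A B C₀ n) f)) := by
      have h1 : chg A B i₁ n (algebraMap C₀ (RT A B C₀ n) f) = i₁ f ⊗ₜ[A] 1 := by
        show chg A B i₁ n (f ⊗ₜ 1) = _
        simp [chg]
      rw [h1]
      exact (IsLocalization.Away.algebraMap_isUnit (S := C₁) f).map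
        (Algebra.TensorProduct.includeLeft : C₁ →ₐ[A] RT A B C₁ n)
    exact q.isPrime.ne_top (Ideal.eq_top_of_isUnit_mem _ hfq hunit)
  let e₁ := pullback.fst u e
  haveI : IsImmersion e₁ := MorphismProperty.pullback_fst _ _ inferInstance
  haveI : LocallyOfFinitePresentation e₁ := MorphismProperty.pullback_fst _ _ inferInstance
  haveI : IsClosedImmersion e₁ := by
    refine IsClosedImmersion.of_isPreimmersion _ ?_
    have hcl : IsClosed (Set.range e.liftCoborder) := e.liftCoborder.isClosedEmbedding.isClosed_range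
    let u' : Spec (CommRingCat.of (RT A B C₁ n)) ⟶ O := IsOpenImmersion.lift O.ι u (by
      rw [Scheme.Opens.range_ι]; rintro _ ⟨q, rfl⟩; exact hu q)
    have hu' : u' ≫ O.ι = u := IsOpenImmersion.lift_fac _ _ _
    have : Set.range e₁ = u' ⁻¹' Set.range e.liftCoborder := by
      ext q
      constructor
      · rintro ⟨w, rfl⟩
        refine ⟨pullback.snd u e w, O.ι.isOpenEmbedding.injective ?_⟩
        rw [← Scheme.Hom.comp_apply, Scheme.Hom.liftCoborder_ι, ← Scheme.Hom.comp_apply u', hu',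
          ← Scheme.Hom.comp_apply, ← Scheme.Hom.comp_apply, pullback.condition]
      · rintro ⟨w, hw⟩
        have hw' : u q = e w := by
          rw [← hu', Scheme.Hom.comp_apply, ← hw, ← Scheme.Hom.comp_apply, Scheme.Hom.liftCoborder_ι]
        obtain ⟨x, hx, -⟩ := Scheme.Pullback.exists_preimage_pullback (f := u) (g := e) q w hw'
        exact ⟨x, hx⟩
    rw [this]
    exact hcl.preimage u'.continuous
  obtain ⟨I, ε, hε⟩ := (IsClosedImmersion.Spec_iff (R := CommRingCat.of (RT A B C₁ n)) (f := e₁)).1 inferInstance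
  haveI : LocallyOfFinitePresentation (Spec.map (CommRingCat.ofHom (Ideal.Quotient.mk I))) := by
    rw [show Spec.map (CommRingCat.ofHom (Ideal.Quotient.mk I)) = ε.inv ≫ e₁ by rw [hε, Iso.inv_hom_id_assoc]]
    infer_instance
  have hfg : I.FG := by
    have h1 := (HasRingHomProperty.Spec_iff (P := @LocallyOfFinitePresentation)).1
      ‹LocallyOfFinitePresentation (Spec.map (CommRingCat.ofHom (Ideal.Quotient.mk I)))›
    haveI : Algebra.FinitePresentation (RT A B C₁ n) (RT A B C₁ n ⧸ I) :=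
      RingHom.finitePresentation_algebraMap.1 h1
    have h2 := Algebra.FinitePresentation.ker_fG_of_surjective
      (Ideal.Quotient.mkₐ (RT A B C₁ n) I) Ideal.Quotient.mk_surjective
    rwa [show RingHom.ker (Ideal.Quotient.mkₐ (RT A B C₁ n) I).toRingHom = I from Ideal.mk_ker] at h2
  refine ⟨f, I, hfx, hfg, fun R _ _ ψ => ?_⟩
  let w := Spec.map (CommRingCat.ofHom (chg A B ψ n).toRingHom)
  have hcomp : Spec.map (CommRingCat.ofHom (chg A B (ψ.comp i₁) n).toRingHom) = w ≫ u := by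
    rw [← Spec.map_comp, ← CommRingCat.ofHom_comp]
    exact congrArg (fun φ => Spec.map (CommRingCat.ofHom φ)) (RingHom.ext fun x => (chg_chg A B i₁ ψ x).symm)
  rw [hcomp, hfac]
  constructor
  · intro hI
    let qq : Spec (CommRingCat.of (RT A B R n)) ⟶ Spec (CommRingCat.of (RT A B C₁ n ⧸ I)) :=
      Spec.map (CommRingCat.ofHom (Ideal.Quotient.lift I (chg A B ψ n).toRingHom hI))
    refine ⟨qq ≫ ε.inv ≫ pullback.snd u e, ?_⟩
    rw [Category.assoc, Category.assoc, ← pullback.condition]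
    show qq ≫ ε.inv ≫ e₁ ≫ u = w ≫ u
    rw [reassoc_of% hε, Iso.inv_hom_id_assoc, ← Category.assoc, ← Spec.map_comp, ← CommRingCat.ofHom_comp]
    rfl
  · rintro ⟨y, hy⟩ x hx
    have h1 : w = (pullback.lift w y hy.symm ≫ ε.hom) ≫ Spec.map (CommRingCat.ofHom (Ideal.Quotient.mk I)) := by
      rw [Category.assoc, ← hε]
      exact (pullback.lift_fst _ _ _).symm
    obtain ⟨φ, hφ⟩ : ∃ φ, Spec.map φ = pullback.lift w y hy.symm ≫ ε.hom := ⟨_, Spec.map_preimage _⟩
    rw [← hφ, ← Spec.map_comp] at h1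
    refine (congrArg (fun F => F.hom x) (Spec.map_injective h1)).trans ?_
    show φ.hom (Ideal.Quotient.mk I x) = 0
    rw [Ideal.Quotient.eq_zero_iff_mem.2 hx, map_zero]

end Equalizer

end Groth.Agent.Desc19b.SmoothFppf.Pts
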