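import Groth.Agent.Desc19b.SmoothFppf.Gm
import Groth.Prelude.Def_Frob
import Groth.Agent.Et18.H0Lift.BaseChangeRed

/-!
# Flat cohomology of `μ_p` in characteristic `p`
-/

set_option autoImplicit false
set_option backward.isDefEq.respectTransparency.types false
set_option backward.isDefEq.respectTransparency false
set_option linter.style.haveILetI false
set_option linter.all false
set_option synthInstance.maxHeartbeats 400000

universe u w v' u'

open CategoryTheory CategoryTheory.Limits CategoryTheory.Abelian AlgebraicGeometry Opposite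

namespace Groth.Agent.Desc19b.SmoothFppf

open Groth.Agent.Desc19b.FppfEt

theorem exists_section' {M N : Type*} [AddCommGroup M] [AddCommGroup N] (p : ℕ) [Fact p.Prime]
    [Module (ZMod p) M] [Module (ZMod p) N] (g : M →+ N) (hg : Function.Surjective g) :
    ∃ s : N →+ M, ∀ b, g (s b) = b := by
  haveI : Module.Free (ZMod p) N := Module.Free.of_divisionRing (ZMod p) N
  haveI : Module.Projective (ZMod p) N := inferInstance
  obtain ⟨s, hs⟩ := Module.projective_lifting_property (g.toZModLinearMap p) (LinearMap.id : N →ₗ[ZMod p] N) hg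
  exact ⟨s.toAddMonoidHom, fun b => LinearMap.congr_fun hs b⟩

theorem exists_section {M N : Type*} [AddCommGroup M] [AddCommGroup N] (p : ℕ) [Fact p.Prime] (g : M →+ N)
    (hg : Function.Surjective g) (hM : ∀ x : M, p • x = 0) (hN : ∀ x : N, p • x = 0) :
    ∃ s : N →+ M, ∀ b, g (s b) = b :=
  @exists_section' M N _ _ p _ (AddCommGroup.zmodModule hM) (AddCommGroup.zmodModule hN) g hg

theorem nonempty_addEquiv_of_exact {A B M : Type*} [AddCommGroup A] [AddCommGroup B] [AddCommGroup M]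
    (p : ℕ) [Fact p.Prime] (f : A →+ M) (g : M →+ B) (hM : ∀ x : M, p • x = 0)
    (h₁ : ∀ a, f a = 0 ↔ ∃ a', p • a' = a) (h₂ : ∀ x, g x = 0 ↔ ∃ a, f a = x)
    (h₃ : ∀ b, p • b = 0 ↔ ∃ x, g x = b) :
    Nonempty ((A ⧸ (nsmulAddMonoidHom (α := A) p).range) × (nsmulAddMonoidHom (α := B) p).ker ≃+ M) := by
  let g' : M →+ (nsmulAddMonoidHom (α := B) p).ker := g.codRestrict _ fun x => (h₃ _).2 ⟨x, rfl⟩
  obtain ⟨s, hs⟩ := exists_section p g'
    (fun b => by
      obtain ⟨x, hx⟩ := (h₃ b.1).1 b.2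
      exact ⟨x, Subtype.ext hx⟩)
    hM (fun b => Subtype.ext b.2)
  let f' : A ⧸ (nsmulAddMonoidHom (α := A) p).range →+ M := QuotientAddGroup.lift _ f (by
    rintro _ ⟨a', rfl⟩
    exact (h₁ _).2 ⟨a', rfl⟩)
  let F := AddMonoidHom.coprod f' s
  have hgs : ∀ b, g (s b) = b.1 := fun b => congrArg Subtype.val (hs b)
  refine ⟨AddEquiv.ofBijective F ⟨(injective_iff_map_eq_zero _).2 ?_, fun x => ?_⟩⟩
  · rintro ⟨ā, b⟩ hab
    obtain ⟨a, rfl⟩ := QuotientAddGroup.mk_surjective ā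
    change f a + s b = 0 at hab
    have hb : b = 0 := Subtype.ext (by
      have := congrArg g hab
      rw [map_add, map_zero, hgs, (h₂ _).2 ⟨a, rfl⟩, zero_add] at this
      exact this)
    subst hb
    rw [map_zero, add_zero] at hab
    exact Prod.ext ((QuotientAddGroup.eq_zero_iff a).2 ((h₁ a).1 hab)) rfl
  · obtain ⟨a, ha⟩ := (h₂ (x - s (g' x))).1 (by rw [map_sub, hgs]; exact sub_self _)
    exact ⟨(QuotientAddGroup.mk a, g' x), by
      change f a + s (g' x) = x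
      rw [ha, sub_add_cancel]⟩

/-- The invariant of multiplication by `p`. -/
abbrev Inv (p : ℕ) (A B : Type*) [AddCommGroup A] [AddCommGroup B] :=
  (A ⧸ (nsmulAddMonoidHom (α := A) p).range) × (nsmulAddMonoidHom (α := B) p).ker

section Ext

variable {C : Type u'} [Category.{v'} C] [Abelian C] [HasExt.{w} C] (K : C) {S : ShortComplex C}
  (hS : S.ShortExact) (p : ℕ) [Fact p.Prime]

theorem comp_mk₀_nsmul {Y : C} (n : ℕ) (x : Ext K Y n) :
    x.comp (Ext.mk₀ (p • 𝟙 Y)) (add_zero n) = p • x := by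
  induction p with
  | zero => simp
  | succ k ih => rw [succ_nsmul, Ext.mk₀_add, Ext.comp_add, ih, Ext.comp_mk₀_id, succ_nsmul]

include hS in
theorem nsmul_eq_zero_of_id {Y : C} (h : p • 𝟙 Y = 0) (n : ℕ) (x : Ext K Y n) : p • x = 0 := by
  rw [← comp_mk₀_nsmul K p, h, Ext.mk₀_zero, Ext.comp_zero]

include hS in
theorem inv_of_kernel (e : S.X₂ ⟶ S.X₃) [IsIso e] (he : S.g = (p • 𝟙 S.X₂) ≫ e) {m n : ℕ} (hmn : m + 1 = n) :
    Nonempty (Inv p (Ext K S.X₂ m) (Ext K S.X₂ n) ≃+ Ext K S.X₁ n) := by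
  have hg : ∀ {k : ℕ} (x : Ext K S.X₂ k),
      x.comp (Ext.mk₀ S.g) (add_zero k) = (p • x).comp (Ext.mk₀ e) (add_zero k) := fun {k} x => by
    rw [he, ← Ext.mk₀_comp_mk₀, ← Ext.comp_assoc_of_third_deg_zero, comp_mk₀_nsmul]
  have hci : ∀ {k : ℕ} (x y : Ext K S.X₂ k),
      x.comp (Ext.mk₀ e) (add_zero k) = y.comp (Ext.mk₀ e) (add_zero k) → x = y := fun {k} x y h => by
    have := congrArg (fun z => z.comp (Ext.mk₀ (inv e)) (add_zero k)) h
    simpa using this
  have hce : ∀ {k : ℕ} (x : Ext K S.X₂ k), x.comp (Ext.mk₀ e) (add_zero k) = 0 → x = 0 := fun {k} x h =>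
    hci x 0 (by rw [h, Ext.zero_comp])
  let f : Ext K S.X₂ m →+ Ext K S.X₁ n := (hS.extClass.postcomp K hmn).comp ((Ext.mk₀ e).postcomp K (add_zero m))
  let g : Ext K S.X₁ n →+ Ext K S.X₂ n := (Ext.mk₀ S.f).postcomp K (add_zero n)
  have hpf : S.f ≫ (p • 𝟙 S.X₂) = 0 := (cancel_mono e).1 (by rw [Category.assoc, ← he, S.zero, zero_comp])
  have hp1 : p • 𝟙 S.X₁ = 0 := by
    haveI := hS.mono_f
    refine (cancel_mono S.f).1 ?_
    rw [zero_comp, ← hpf]
    simp [Preadditive.nsmul_comp, Preadditive.comp_nsmul]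
  refine nonempty_addEquiv_of_exact p f g (nsmul_eq_zero_of_id K hS p hp1 n) (fun a => ⟨fun ha => ?_, ?_⟩)
    (fun x => ⟨fun hx => ?_, ?_⟩) fun b => ⟨fun hb => ?_, ?_⟩
  · obtain ⟨x₂, hx₂⟩ := Ext.covariant_sequence_exact₃ K hS (a.comp (Ext.mk₀ e) (add_zero m)) hmn ha
    rw [hg] at hx₂
    exact ⟨x₂, hci _ _ hx₂⟩
  · rintro ⟨a', rfl⟩
    change ((p • a').comp (Ext.mk₀ e) (add_zero m)).comp hS.extClass hmn = 0
    rw [← hg, Ext.comp_assoc_of_second_deg_zero, hS.comp_extClass, Ext.comp_zero]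
  · obtain ⟨x₃, hx₃⟩ := Ext.covariant_sequence_exact₁ K hS x hx hmn
    refine ⟨x₃.comp (Ext.mk₀ (inv e)) (add_zero m), ?_⟩
    change ((x₃.comp (Ext.mk₀ (inv e)) (add_zero m)).comp (Ext.mk₀ e) (add_zero m)).comp hS.extClass hmn = x
    simpa using hx₃
  · rintro ⟨a, rfl⟩
    change ((a.comp (Ext.mk₀ e) (add_zero m)).comp hS.extClass hmn).comp (Ext.mk₀ S.f) (add_zero n) = 0
    rw [Ext.comp_assoc_of_third_deg_zero, hS.extClass_comp, Ext.comp_zero]
  · exact Ext.covariant_sequence_exact₂ K hS b (by rw [hg, hb, Ext.zero_comp])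
  · rintro ⟨x, rfl⟩
    refine hce _ ?_
    change (p • x.comp (Ext.mk₀ S.f) (add_zero n)).comp (Ext.mk₀ e) (add_zero n) = 0
    rw [← hg, Ext.comp_assoc_of_third_deg_zero, Ext.mk₀_comp_mk₀, S.zero, Ext.mk₀_zero, Ext.comp_zero]

include hS in
theorem inv_of_cokernel (e : S.X₁ ⟶ S.X₂) [IsIso e] (he : S.f = (p • 𝟙 S.X₁) ≫ e) {m n : ℕ} (hmn : m + 1 = n) :
    Nonempty (Inv p (Ext K S.X₁ m) (Ext K S.X₁ n) ≃+ Ext K S.X₃ m) := by
  have hf : ∀ {k : ℕ} (x : Ext K S.X₁ k),
      x.comp (Ext.mk₀ S.f) (add_zero k) = (p • x).comp (Ext.mk₀ e) (add_zero k) := fun {k} x => by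
    rw [he, ← Ext.mk₀_comp_mk₀, ← Ext.comp_assoc_of_third_deg_zero, comp_mk₀_nsmul]
  have hci : ∀ {k : ℕ} (x y : Ext K S.X₁ k),
      x.comp (Ext.mk₀ e) (add_zero k) = y.comp (Ext.mk₀ e) (add_zero k) → x = y := fun {k} x y h => by
    have := congrArg (fun z => z.comp (Ext.mk₀ (inv e)) (add_zero k)) h
    simpa using this
  have hce : ∀ {k : ℕ} (x : Ext K S.X₁ k), x.comp (Ext.mk₀ e) (add_zero k) = 0 → x = 0 := fun {k} x h =>
    hci x 0 (by rw [h, Ext.zero_comp])
  let f : Ext K S.X₁ m →+ Ext K S.X₃ m :=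
    ((Ext.mk₀ S.g).postcomp K (add_zero m)).comp ((Ext.mk₀ e).postcomp K (add_zero m))
  let g : Ext K S.X₃ m →+ Ext K S.X₁ n := hS.extClass.postcomp K hmn
  have hp3 : p • 𝟙 S.X₃ = 0 := by
    haveI := hS.epi_g
    refine (cancel_epi S.g).1 ((cancel_epi e).1 ?_)
    rw [comp_zero, comp_zero, Preadditive.comp_nsmul, Category.comp_id, Preadditive.comp_nsmul,
      ← Preadditive.nsmul_comp, show p • e = S.f by rw [he, Preadditive.nsmul_comp, Category.id_comp], S.zero]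
  refine nonempty_addEquiv_of_exact p f g (nsmul_eq_zero_of_id K hS p hp3 m) (fun a => ⟨fun ha => ?_, ?_⟩)
    (fun x => ⟨fun hx => ?_, ?_⟩) fun b => ⟨fun hb => ?_, ?_⟩
  · obtain ⟨a', ha'⟩ := Ext.covariant_sequence_exact₂ K hS (a.comp (Ext.mk₀ e) (add_zero m)) ha
    rw [hf] at ha'
    exact ⟨a', hci _ _ ha'⟩
  · rintro ⟨a', rfl⟩
    change ((p • a').comp (Ext.mk₀ e) (add_zero m)).comp (Ext.mk₀ S.g) (add_zero m) = 0
    rw [← hf, Ext.comp_assoc_of_third_deg_zero, Ext.mk₀_comp_mk₀, S.zero, Ext.mk₀_zero, Ext.comp_zero]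
  · obtain ⟨x₂, hx₂⟩ := Ext.covariant_sequence_exact₃ K hS x hmn hx
    refine ⟨x₂.comp (Ext.mk₀ (inv e)) (add_zero m), ?_⟩
    change ((x₂.comp (Ext.mk₀ (inv e)) (add_zero m)).comp (Ext.mk₀ e) (add_zero m)).comp (Ext.mk₀ S.g) (add_zero m) = x
    simpa using hx₂
  · rintro ⟨a, rfl⟩
    change ((a.comp (Ext.mk₀ e) (add_zero m)).comp (Ext.mk₀ S.g) (add_zero m)).comp hS.extClass hmn = 0
    rw [Ext.comp_assoc_of_second_deg_zero, hS.comp_extClass, Ext.comp_zero]
  · exact Ext.covariant_sequence_exact₁ K hS b (by rw [hf, hb, Ext.zero_comp]) hmn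
  · rintro ⟨x, rfl⟩
    refine hce _ ?_
    change (p • x.comp hS.extClass hmn).comp (Ext.mk₀ e) (add_zero n) = 0
    rw [← hf, Ext.comp_assoc_of_third_deg_zero, hS.extClass_comp, Ext.comp_zero]

end Ext

variable {X : Scheme.{u}}

theorem ap_nsmul_id {A : EtFppf.AbF X} (k : ℕ) (T : Over X) (x : Sec A T) : ap (k • 𝟙 A) T x = k • x := by
  induction k with
  | zero => rw [zero_nsmul, zero_nsmul]; rfl
  | succ k ih => rw [succ_nsmul, succ_nsmul, ← ih]; rfl

theorem epi_nsmul_GmF (n : ℕ) (hn : 0 < n) : Epi (n • 𝟙 (EtDl.GmF X)) := by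
  refine epi_of_fppfLift _ fun T x t => ?_
  obtain ⟨v, rfl⟩ := exists_ofU x
  obtain ⟨_, ⟨U, (hU : IsAffineOpen U), rfl⟩, htU, -⟩ := T.left.isBasis_affineOpens.exists_subset_of_mem_open
    (Set.mem_univ t) isOpen_univ
  let A := Γ(T.left, U)
  let a : (A : Type u)ˣ := Units.map (hU.fromSpec.appTop ≫ (Scheme.ΓSpecIso A).hom).hom.toMonoidHom v.toMul
  let f : Polynomial A := Polynomial.X ^ n - Polynomial.C (a : A)
  have hf : f.Monic := Polynomial.monic_X_pow_sub_C _ hn.ne'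
  let B := AdjoinRoot f
  haveI : Module.Free A B := hf.free_adjoinRoot
  haveI : Module.Finite A B := hf.finite_adjoinRoot
  let π : Spec (CommRingCat.of B) ⟶ Spec A := Spec.map (CommRingCat.ofHom (algebraMap A B))
  let R : Over X := Over.mk ((π ≫ hU.fromSpec) ≫ T.hom)
  let q : R ⟶ T := Over.homMk (π ≫ hU.fromSpec)
  haveI : Flat π := (HasRingHomProperty.Spec_iff (P := @Flat)).2 (RingHom.flat_algebraMap_iff.2 inferInstance)
  haveI : Module.FinitePresentation A B := Module.finitePresentation_of_projective A B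
  haveI : Algebra.FinitePresentation A B := Algebra.FinitePresentation.of_finitePresentation A B
  haveI : LocallyOfFinitePresentation π := (HasRingHomProperty.Spec_iff
    (P := @LocallyOfFinitePresentation)).2 (RingHom.finitePresentation_algebraMap.2 inferInstance)
  have hroot : AdjoinRoot.root f ^ n = algebraMap A B a := by
    have := AdjoinRoot.eval₂_root f
    rw [show (algebraMap A B) (a : A) = AdjoinRoot.of f a from rfl]
    simpa [f, sub_eq_zero] using this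
  obtain ⟨ρ, hρ⟩ : IsUnit (AdjoinRoot.root f) :=
    (isUnit_pow_iff hn.ne').1 (hroot ▸ a.isUnit.map _)
  refine ⟨R, q, inferInstanceAs (Flat (π ≫ hU.fromSpec)),
    inferInstanceAs (LocallyOfFinitePresentation (π ≫ hU.fromSpec)), ?_,
    ofU (Additive.ofMul (Units.map (Scheme.ΓSpecIso (CommRingCat.of B)).inv.hom.toMonoidHom ρ)), ?_⟩
  · haveI : Nontrivial A := by
      have := (hU.primeIdealOf ⟨t, htU⟩).2.ne_top
      exact ⟨0, 1, fun h01 => this ((Ideal.eq_top_iff_one _).2 (h01 ▸ zero_mem _))⟩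
    haveI : Module.FaithfullyFlat A B := by
      have : 0 < f.natDegree := by rw [Polynomial.natDegree_X_pow_sub_C]; exact hn
      haveI : Nonempty (Fin (AdjoinRoot.powerBasis' hf).dim) := ⟨⟨0, this⟩⟩
      exact Module.FaithfullyFlat.of_linearEquiv _ _ (AdjoinRoot.powerBasis' hf).basis.repr
    obtain ⟨y, hy⟩ := PrimeSpectrum.comap_surjective_of_faithfullyFlat (A := A) (B := B) (hU.primeIdealOf ⟨t, htU⟩)
    exact ⟨y, (congrArg hU.fromSpec hy).trans (hU.fromSpec_primeIdealOf ⟨t, htU⟩)⟩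
  · rw [ap_nsmul_id, ← map_nsmul, rs_ofU]
    refine congrArg ofU (congrArg Additive.ofMul (Units.ext ?_))
    show ((Scheme.ΓSpecIso (CommRingCat.of B)).inv (ρ : B)) ^ n = (π ≫ hU.fromSpec).appTop v.toMul.val
    rw [← map_pow, hρ, hroot, Scheme.Hom.comp_appTop]
    have h1 := congrArg (fun g : A ⟶ _ => g.hom ((hU.fromSpec.appTop ≫ (Scheme.ΓSpecIso A).hom).hom v.toMul.val))
      (Scheme.ΓSpecIso_inv_naturality (CommRingCat.ofHom (algebraMap A B)))
    refine h1.trans ?_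
    show π.appTop ((Scheme.ΓSpecIso A).inv ((Scheme.ΓSpecIso A).hom _)) = π.appTop _
    rw [← ConcreteCategory.comp_apply (Scheme.ΓSpecIso A).hom, Iso.hom_inv_id]
    rfl

theorem mono_powMap (p : ℕ) [Fact p.Prime] [FrobSch.IsCharP X p] [IsReduced X] : Mono (EtCoh.powMap X p) := by
  haveI : Mono (EtCoh.powMap X p).hom := by
    haveI : ∀ U : X.Etaleᵒᵖ, Mono ((EtCoh.powMap X p).hom.app U) := fun U => by
      refine (AddCommGrpCat.mono_iff_injective _).2 ((injective_iff_map_eq_zero _).2 fun x hx => ?_)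
      haveI : Etale U.unop.hom := U.unop.prop
      let f : U.unop.left ⟶ X := U.unop.hom
      haveI : Etale f := ‹Etale U.unop.hom›
      haveI : IsReduced U.unop.left := Et18.H0Lift.isReduced_of_etale_source f
      haveI : FrobSch.IsCharP U.unop.left p := FrobSch.IsCharP.of_hom f p
      have hp : p • x = 0 := by
        have : ∀ k : ℕ, (k • 𝟙 (EtCoh.Gm X)).hom.app U x = k • x := fun k => by
          induction k with
          | zero => rw [zero_nsmul, zero_nsmul]; rfl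
          | succ k ih => rw [succ_nsmul, succ_nsmul, ← ih]; rfl
        rw [← this]
        exact hx
      let v : (Γ(U.unop.left, ⊤))ˣ := x.down.toMul
      have hv : (v : Γ(U.unop.left, ⊤)) ^ p = 1 := congrArg (fun y => (y.down.toMul : (Γ(U.unop.left, ⊤))ˣ).val) hp
      have h1 : ((v : Γ(U.unop.left, ⊤)) - 1) ^ p = 0 := by
        rw [← FrobSch.powHom_apply p _ (FrobSch.IsCharP.natCast_eq_zero), map_sub, map_one, FrobSch.powHom_apply,
          hv, sub_self]
      have key : v = 1 := Units.ext (sub_eq_zero.1 (eq_zero_of_pow_eq_zero h1))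
      exact ULift.ext _ _ (congrArg Additive.ofMul key)
    exact NatTrans.mono_of_mono_app _
  exact (sheafToPresheaf _ _).mono_of_mono_map (inferInstanceAs (Mono (EtCoh.powMap X p).hom))

/-- The multiplicative group of the small site is the restriction of that of the big site. -/
noncomputable def gmIso [EtFppf.ACont X] : EtCoh.Gm X ≅ (EtFppf.aPush X).obj (EtDl.GmF X) :=
  (fullyFaithfulSheafToPresheaf _ _).preimageIso (Iso.refl _)

/-- Flat cohomology of `μ_p` and étale cohomology of `𝔾_m/p`. -/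
theorem nonempty_mu_equiv (p : ℕ) [Fact p.Prime] [FrobSch.IsCharP X p] [IsReduced X] [EtFppf.ACont X]
    (i : ℕ) (hi : 1 ≤ i) :
    Nonempty (EtFppf.HF X (kernel (p • 𝟙 (EtDl.GmF X))) i ≃+ EtCoh.H X (cokernel (EtCoh.powMap X p)) (i - 1)) := by
  obtain ⟨m, rfl⟩ : ∃ m, i = m + 1 := ⟨i - 1, by omega⟩
  haveI := mono_powMap (X := X) p
  haveI := epi_nsmul_GmF (X := X) p (Fact.out : p.Prime).pos
  let S₁ := ShortComplex.mk (kernel.ι (p • 𝟙 (EtDl.GmF X))) (p • 𝟙 (EtDl.GmF X)) (kernel.condition _)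
  have h₁ : S₁.ShortExact :=
    { exact := ShortComplex.exact_of_f_is_kernel _ (kernelIsKernel _) }
  let S₂ := ShortComplex.mk (EtCoh.powMap X p) (cokernel.π (EtCoh.powMap X p)) (cokernel.condition _)
  have h₂ : S₂.ShortExact :=
    { exact := ShortComplex.exact_of_g_is_cokernel _ (cokernelIsCokernel _) }
  let A₀ := AddCommGrpCat.of (ULift.{u + 1} ℤ)
  obtain ⟨e₁⟩ := inv_of_kernel ((constantSheaf (EtFppf.J X) AddCommGrpCat.{u + 1}).obj A₀) h₁ p (𝟙 _)
    (Category.comp_id _).symm (rfl : m + 1 = m + 1)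
  obtain ⟨e₂⟩ := inv_of_cokernel ((constantSheaf X.smallEtaleTopology AddCommGrpCat.{u + 1}).obj A₀) h₂ p (𝟙 _)
    (Category.comp_id _).symm (rfl : m + 1 = m + 1)
  have c : ∀ k, Nonempty (EtCoh.H X (EtCoh.Gm X) k ≃+ EtFppf.HF X (EtDl.GmF X) k) := fun k => by
    obtain ⟨e⟩ := nonempty_H_equiv_HF (goodCoeff_GmF X) k
    exact ⟨(((EtCoh.HF X k).mapIso gmIso).addCommGroupIsoToAddEquiv).trans e⟩
  obtain ⟨ca⟩ := c m
  obtain ⟨cb⟩ := c (m + 1)
  have hq : ((nsmulAddMonoidHom (α := EtCoh.H X (EtCoh.Gm X) m) p).range).map ca.toAddMonoidHom =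
      (nsmulAddMonoidHom (α := EtFppf.HF X (EtDl.GmF X) m) p).range := by
    ext y
    simp only [AddSubgroup.mem_map, AddMonoidHom.mem_range, nsmulAddMonoidHom_apply]
    exact ⟨by rintro ⟨_, ⟨a, rfl⟩, rfl⟩; exact ⟨ca a, (map_nsmul ca p a).symm⟩,
      by rintro ⟨b, rfl⟩; exact ⟨_, ⟨ca.symm b, rfl⟩, by simp⟩⟩
  let eI : Inv p (EtCoh.H X (EtCoh.Gm X) m) (EtCoh.H X (EtCoh.Gm X) (m + 1)) ≃+
      Inv p (EtFppf.HF X (EtDl.GmF X) m) (EtFppf.HF X (EtDl.GmF X) (m + 1)) :=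
    AddEquiv.prodCongr (QuotientAddGroup.congr _ _ ca hq)
      { toFun := fun b => ⟨cb b.1, by
          rw [AddMonoidHom.mem_ker, nsmulAddMonoidHom_apply, ← map_nsmul cb, show p • b.1 = 0 from b.2, map_zero]⟩
        invFun := fun b => ⟨cb.symm b.1, by
          rw [AddMonoidHom.mem_ker, nsmulAddMonoidHom_apply, ← map_nsmul cb.symm, show p • b.1 = 0 from b.2,
            map_zero]⟩
        left_inv := fun b => Subtype.ext (cb.symm_apply_apply _)
        right_inv := fun b => Subtype.ext (cb.apply_symm_apply _)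
        map_add' := fun a b => Subtype.ext (map_add cb _ _) }
  exact ⟨e₁.symm.trans (eI.symm.trans e₂)⟩

end Groth.Agent.Desc19b.SmoothFppf
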