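import Groth.Agent.Desc19b.SmoothFppf.Gm
import Groth.Agent.Desc19b.SmoothFppf.Sol

/-!
# Amitsur complexes of points of a represented sheaf
-/

set_option autoImplicit false
set_option backward.isDefEq.respectTransparency.types false
set_option backward.isDefEq.respectTransparency false
set_option linter.style.haveILetI false
set_option linter.all false
set_option synthInstance.maxHeartbeats 400000

universe u

open CategoryTheory CategoryTheory.Limits AlgebraicGeometry Opposite TensorProduct Simplicial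

namespace Groth.Agent.Desc19b.SmoothFppf

open Groth.Agent.Desc19b.FppfEt AmitsurCech

variable {X : Scheme.{u}}

/-- A sheaf whose sections over objects over `T` are the points of a scheme over `T`. -/
structure Rep (M : EtFppf.AbF X) (T : Over X) where
  /-- The scheme. -/
  G : Scheme.{u}
  /-- Its structure map. -/
  p : G ⟶ T.left
  /-- Sections are points. -/
  eqv : ∀ (Q : Over X) (g : Q ⟶ T), Sec M Q ≃ {v : Q.left ⟶ G // v ≫ p = g.left}
  nat : ∀ {Q Q' : Over X} (q : Q' ⟶ Q) (g : Q ⟶ T) (x : Sec M Q),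
    (eqv Q' (q ≫ g) (rs M q x)).1 = q.left ≫ (eqv Q g x).1

namespace Pts

open Alg

variable (A : Type u) [CommRing A] (h : Spec (CommRingCat.of A) ⟶ X) (M : EtFppf.AbF X)

/-- The object given by an algebra. -/
noncomputable abbrev Ob (R : Type u) [CommRing R] [Algebra A R] : Over X :=
  Over.mk (Spec.map (CommRingCat.ofHom (algebraMap A R)) ≫ h)

variable {A}

/-- The morphism of objects given by an algebra map. -/
noncomputable def sp {R R' : Type u} [CommRing R] [Algebra A R] [CommRing R'] [Algebra A R'] (f : R →ₐ[A] R') :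
    Ob A h R' ⟶ Ob A h R :=
  Over.homMk (Spec.map (CommRingCat.ofHom f.toRingHom)) (by
    show Spec.map _ ≫ Spec.map _ ≫ h = _
    rw [← Category.assoc, ← Spec.map_comp, ← CommRingCat.ofHom_comp]
    exact congrArg (fun φ => Spec.map (CommRingCat.ofHom φ) ≫ h) f.comp_algebraMap)

/-- Change of algebras on sections. -/
noncomputable def pm {R R' : Type u} [CommRing R] [Algebra A R] [CommRing R'] [Algebra A R'] (f : R →ₐ[A] R') :
    Sec M (Ob A h R) →+ Sec M (Ob A h R') :=
  (M.obj.map (sp h f).op).hom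

variable {R R' R'' : Type u} [CommRing R] [Algebra A R] [CommRing R'] [Algebra A R'] [CommRing R''] [Algebra A R'']

theorem sp_comp (f : R →ₐ[A] R') (g : R' →ₐ[A] R'') : sp h g ≫ sp h f = sp h (g.comp f) :=
  Over.OverMorphism.ext (Spec.map_comp _ _).symm

theorem sp_id : sp h (AlgHom.id A R) = 𝟙 _ := Over.OverMorphism.ext (Spec.map_id _)

theorem pm_pm (f : R →ₐ[A] R') (g : R' →ₐ[A] R'') (x : Sec M (Ob A h R)) :
    pm h M g (pm h M f x) = pm h M (g.comp f) x := by
  change rs M (sp h g) (rs M (sp h f) x) = rs M (sp h (g.comp f)) x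
  rw [rs_rs, sp_comp]

theorem pm_id (x : Sec M (Ob A h R)) : pm h M (AlgHom.id A R) x = x := by
  change rs M (sp h (AlgHom.id A R)) x = x
  rw [sp_id]
  exact ConcreteCategory.congr_hom (M.obj.map_id _) _

variable (B : Type u) [CommRing B] [Algebra A B]

variable (R) in
/-- The differential on points. -/
noncomputable def dP (n : ℕ) : Sec M (Ob A h (RT A B R n)) →+ Sec M (Ob A h (RT A B R (n + 1))) :=
  ∑ k : Fin (n + 2), (-1 : ℤ) ^ (k : ℕ) • pm h M (face A B R n k)

theorem dP_apply (n : ℕ) (x : Sec M (Ob A h (RT A B R n))) :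
    dP h M R B n x = ∑ k : Fin (n + 2), (-1 : ℤ) ^ (k : ℕ) • pm h M (face A B R n k) x := by
  simp [dP, AddMonoidHom.finsetSum_apply]

variable (R) in
/-- Simplicial maps with coefficients. -/
noncomputable def mapR {m n : SimplexCategory} (g : m ⟶ n) : RT A B R m.len →ₐ[A] RT A B R n.len :=
  Algebra.TensorProduct.map (AlgHom.id A R) (mapT A B g)

theorem mapR_id (m : SimplexCategory) : mapR (A := A) R B (𝟙 m) = AlgHom.id A (RT A B R m.len) := by
  have : mapT A B (𝟙 m) = AlgHom.id A (T A B m.len) :=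
    AlgHom.ext fun x => congrArg (fun f : T A B m.len ⟶ T A B m.len => f.hom x) ((arr A B).cechConerve.map_id m)
  rw [mapR, this, Algebra.TensorProduct.map_id]

theorem mapR_comp {l m n : SimplexCategory} (f : l ⟶ m) (g : m ⟶ n) :
    mapR (A := A) R B (f ≫ g) = (mapR (A := A) R B g).comp (mapR (A := A) R B f) := by
  have : mapT A B (f ≫ g) = (mapT A B g).comp (mapT A B f) :=
    AlgHom.ext fun x =>
      congrArg (fun h : T A B l.len ⟶ T A B n.len => h.hom x) ((arr A B).cechConerve.map_comp f g)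
  rw [mapR, this, Algebra.TensorProduct.map_id_comp]
  rfl

variable (R) in
/-- Points of tensor powers as a cosimplicial group. -/
noncomputable def cosimpP : CosimplicialObject AddCommGrpCat.{u + 1} where
  obj m := Sec M (Ob A h (RT A B R m.len))
  map g := AddCommGrpCat.ofHom (pm h M (mapR (A := A) R B g))
  map_id m := ConcreteCategory.hom_ext _ _ fun x =>
    (congrArg (fun φ => pm h M φ x) (mapR_id B m)).trans (pm_id h M x)
  map_comp f g := ConcreteCategory.hom_ext _ _ fun x =>
    (congrArg (fun φ => pm h M φ x) (mapR_comp B f g)).trans (pm_pm h M _ _ x).symm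

theorem dP_dP (n : ℕ) (x : Sec M (Ob A h (RT A B R n))) : dP h M R B (n + 1) (dP h M R B n x) = 0 := by
  have key : ∀ (n : ℕ) (x : Sec M (Ob A h (RT A B R n))),
      (AlgebraicTopology.AlternatingCofaceMapComplex.objD (cosimpP h M R B) n).hom x = dP h M R B n x := by
    intro n x
    simp only [AlgebraicTopology.AlternatingCofaceMapComplex.objD, dP_apply]
    refine Eq.trans (congrArg (fun g : _ →+ _ => g x) (map_sum AddCommGrpCat.homAddEquiv _ _)) ?_
    rw [AddMonoidHom.finsetSum_apply]
    rfl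
  have hd := congrArg (fun f => f.hom x)
    (AlgebraicTopology.AlternatingCofaceMapComplex.d_squared (cosimpP h M R B) n)
  rw [← key, ← key]
  exact hd

theorem pm_chg_dP (ψ : R →ₐ[A] R') (n : ℕ) (x : Sec M (Ob A h (RT A B R n))) :
    pm h M (chg A B ψ (n + 1)) (dP h M R B n x) = dP h M R' B n (pm h M (chg A B ψ n) x) := by
  rw [dP_apply, dP_apply, map_sum]
  refine Finset.sum_congr rfl fun k _ => ?_
  rw [map_zsmul, pm_pm, pm_pm]
  exact congrArg (fun φ => (-1 : ℤ) ^ (k : ℕ) • pm h M φ x) (AlgHom.ext fun t => chg_face A B ψ n k t)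

/-- The differential on points of tensor powers. -/
noncomputable def dT0 (n : ℕ) (x : Sec M (Ob A h (T A B n))) : Sec M (Ob A h (T A B (n + 1))) :=
  ∑ k : Fin (n + 2), (-1 : ℤ) ^ (k : ℕ) • pm h M (δA A B n k) x

variable (R) in
/-- Constant points. -/
noncomputable def zP (n : ℕ) : Sec M (Ob A h (T A B n)) →+ Sec M (Ob A h (RT A B R n)) :=
  pm h M (Algebra.TensorProduct.includeRight (R := A) (A := R) (B := T A B n))

theorem zP_dT0 (n : ℕ) (x : Sec M (Ob A h (T A B n))) :
    zP h M R B (n + 1) (dT0 h M B n x) = dP h M R B n (zP h M R B n x) := by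
  rw [dT0, dP_apply, map_sum]
  refine Finset.sum_congr rfl fun k _ => ?_
  rw [map_zsmul, zP, zP, pm_pm, pm_pm]
  exact congrArg (fun φ => (-1 : ℤ) ^ (k : ℕ) • pm h M φ x)
    (AlgHom.ext fun t => (face_tmul A B R n k 1 t).symm)

theorem pm_chg_zP (ψ : R →ₐ[A] R') (n : ℕ) (x : Sec M (Ob A h (T A B n))) :
    pm h M (chg A B ψ n) (zP h M R B n x) = zP h M R' B n x := by
  rw [zP, zP, pm_pm]
  exact congrArg (fun φ => pm h M φ x) (AlgHom.ext fun t => by simp [chg])

theorem dP_zP_eq_zero (n : ℕ) (x : Sec M (Ob A h (T A B n))) (hx : dT0 h M B n x = 0) :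
    dP h M R B n (zP h M R B n x) = 0 := by
  rw [← zP_dT0, hx, map_zero]

theorem exists_primitive_of_point (φ : B →ₐ[A] R) (n : ℕ) (z : Sec M (Ob A h (RT A B R (n + 1))))
    (hz : dP h M R B (n + 1) z = 0) : ∃ y, dP h M R B n y = z := by
  refine ⟨pm h M (hM A B R φ n) z, ?_⟩
  have h0 : pm h M (hM A B R φ (n + 1)) (pm h M (face A B R (n + 1) 0) z) = z := by
    rw [pm_pm, show (hM A B R φ (n + 1)).comp (face A B R (n + 1) 0) = AlgHom.id A _ from
      AlgHom.ext (hM_zero A B R φ _), pm_id]
  have hs : ∀ k : Fin (n + 2), pm h M (hM A B R φ (n + 1)) (pm h M (face A B R (n + 1) k.succ) z) =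
      pm h M (face A B R n k) (pm h M (hM A B R φ n) z) := fun k => by
    rw [pm_pm, pm_pm, show (hM A B R φ (n + 1)).comp (face A B R (n + 1) k.succ) =
      (face A B R n k).comp (hM A B R φ n) from AlgHom.ext (hM_succ A B R φ n k)]
  have := congrArg (pm h M (hM A B R φ (n + 1))) hz
  rw [dP_apply, Fin.sum_univ_succ, map_add, map_sum, map_zero] at this
  simp only [map_zsmul, hs, Fin.val_zero, pow_zero, one_zsmul, h0, Fin.val_succ, pow_succ, mul_neg_one,
    neg_smul, map_neg, Finset.sum_neg_distrib, ← sub_eq_add_neg, sub_eq_zero] at this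
  rw [dP_apply]
  exact this.symm

section Points

variable {M} {h}
variable (ρ : Rep M (T₀ A h))

/-- The structure morphism of an object. -/
noncomputable abbrev toBase (R : Type u) [CommRing R] [Algebra A R] : Ob A h R ⟶ T₀ A h :=
  Over.homMk (Spec.map (CommRingCat.ofHom (algebraMap A R)))

/-- The point of a section. -/
noncomputable def pt (x : Sec M (Ob A h R)) : Spec (CommRingCat.of R) ⟶ ρ.G := (ρ.eqv _ (toBase R) x).1

theorem pt_p (x : Sec M (Ob A h R)) : pt ρ x ≫ ρ.p = Spec.map (CommRingCat.ofHom (algebraMap A R)) :=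
  (ρ.eqv _ (toBase R) x).2

theorem pt_pm (f : R →ₐ[A] R') (x : Sec M (Ob A h R)) :
    pt ρ (pm h M f x) = Spec.map (CommRingCat.ofHom f.toRingHom) ≫ pt ρ x := by
  have e : sp h f ≫ toBase R = toBase R' := Over.OverMorphism.ext (by
    show Spec.map _ ≫ Spec.map _ = Spec.map _
    rw [← Spec.map_comp, ← CommRingCat.ofHom_comp]
    exact congrArg (fun φ => Spec.map (CommRingCat.ofHom φ)) f.comp_algebraMap)
  have := ρ.nat (sp h f) (toBase R) x
  rw [e] at this
  exact this

theorem pt_injective : Function.Injective (pt (R := R) ρ) := fun x y hxy =>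
  (ρ.eqv _ (toBase R)).injective (Subtype.ext hxy)

theorem exists_pt_eq (v : Spec (CommRingCat.of R) ⟶ ρ.G)
    (hv : v ≫ ρ.p = Spec.map (CommRingCat.ofHom (algebraMap A R))) : ∃ x, pt ρ x = v :=
  ⟨(ρ.eqv _ (toBase R)).symm ⟨v, hv⟩, congrArg Subtype.val ((ρ.eqv _ (toBase R)).apply_symm_apply _)⟩

/-- The zero point. -/
noncomputable def e₀ : Spec (CommRingCat.of A) ⟶ ρ.G := pt ρ (0 : Sec M (Ob A h A))

theorem pt_zero : pt ρ (0 : Sec M (Ob A h R)) = Spec.map (CommRingCat.ofHom (algebraMap A R)) ≫ e₀ ρ := by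
  rw [e₀, ← show (Algebra.ofId A R).toRingHom = algebraMap A R from rfl, ← pt_pm, map_zero]

end Points

end Pts

end Groth.Agent.Desc19b.SmoothFppf
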