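import Groth.Agent.Desc19b.SmoothFppf.PtsAlg

/-!
# Čech cochains of an affine finite covering as sections over tensor powers
-/

set_option autoImplicit false
set_option backward.isDefEq.respectTransparency.types false
set_option backward.isDefEq.respectTransparency false
set_option linter.style.haveILetI false
set_option linter.all false
set_option synthInstance.maxHeartbeats 400000

universe u

open CategoryTheory CategoryTheory.Limits AlgebraicGeometry Opposite TensorProduct

namespace Groth.Agent.Desc19b.SmoothFppf.Pts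

open Groth.Agent.Desc19b.FppfEt Groth.Agent.SiteCoh AmitsurCech

variable {X : Scheme.{u}} (A B : Type u) [CommRing A] [CommRing B] [Algebra A B]
  (h : Spec (CommRingCat.of A) ⟶ X) (M : EtFppf.AbF X)

section Affine

variable {n : ℕ} (a : Fin (n + 1) → PUnit.{u + 2})

/-- An intersection as the object of a tensor power. -/
noncomputable def iP : (Int₀ A B h a).left ⟶ Ob A h (T A B n) :=
  Over.homMk ((Int₀ A B h a).left.left.toSpecΓ ≫ Spec.map (ψ₀ A B h a)) (by
    show (_ ≫ Spec.map (ψ₀ A B h a)) ≫ Spec.map (hd A B n) ≫ h = _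
    rw [Category.assoc, ← Spec.map_comp_assoc, hd_ψ₀, Spec.map_comp, Category.assoc,
      ← Scheme.toSpecΓ_naturality_assoc]
    erw [toSpecΓ_SpecMap_ΓSpecIso_inv_assoc]
    exact Over.w (Int₀ A B h a).hom)

instance isIso_iP : IsIso (iP A B h a) := by
  haveI : IsIso ((Over.forget X).map (iP A B h a)) := (isIso_ψ₀ A B h a).2
  exact isIso_of_reflects_iso _ (Over.forget X)

theorem face_iP (b : Fin (n + 2) → PUnit.{u + 2}) (j : Fin (n + 2)) :
    (Cech.face (fam (T₀ A h) (π₀ A B h)) b j).left ≫ iP A B h (b ∘ j.succAbove) =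
      iP A B h b ≫ sp h (δA A B n j) := by
  refine Over.OverMorphism.ext ?_
  show (Cech.face (fam (T₀ A h) (π₀ A B h)) b j).left.left ≫ _ ≫ Spec.map (ψ₀ A B h (b ∘ j.succAbove)) =
    (_ ≫ Spec.map (ψ₀ A B h b)) ≫ Spec.map ((arr A B).cechConerve.δ j)
  rw [Category.assoc, ← Spec.map_comp, δ_ψ₀, Spec.map_comp, Scheme.toSpecΓ_naturality_assoc]

end Affine

/-- Cochains from sections over tensor powers. -/
noncomputable def toP {n : ℕ} (x : Sec M (Ob A h (T A B n))) : Cn M (T₀ A h) (π₀ A B h) n :=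
  Cech.mk _ _ fun a => rs M (iP A B h a) x

theorem toP_zero {n : ℕ} : toP A B h M (0 : Sec M (Ob A h (T A B n))) = 0 :=
  Cech.ext _ _ fun a => by rw [toP, Cech.ev_mk, map_zero]; exact map_zero (M.obj.map (iP A B h a).op).hom

theorem toP_injective {n : ℕ} : Function.Injective (toP A B h M (n := n)) := fun x y hxy => by
  have h1 := congrArg (Cech.ev (FppfSS.psh (EtFppf.J X) M) (fam (T₀ A h) (π₀ A B h)) default) hxy
  rw [toP, toP, Cech.ev_mk, Cech.ev_mk] at h1
  exact (ConcreteCategory.bijective_of_isIso (M.obj.map (iP A B h default).op)).1 h1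

theorem exists_toP {n : ℕ} (c : Cn M (T₀ A h) (π₀ A B h) n) : ∃ x, toP A B h M x = c := by
  obtain ⟨x, hx⟩ := (ConcreteCategory.bijective_of_isIso (M.obj.map (iP A B h (default : Fin (n + 1) → PUnit.{u + 2})).op)).2
    (Cech.ev (FppfSS.psh (EtFppf.J X) M) (fam (T₀ A h) (π₀ A B h)) default c)
  refine ⟨x, cn_ext _ _ ?_⟩
  rw [toP, Cech.ev_mk]
  exact hx

theorem δ_toP {n : ℕ} (x : Sec M (Ob A h (T A B n))) :
    δ M (T₀ A h) (π₀ A B h) n (toP A B h M x) = toP A B h M (dT0 h M B n x) := by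
  refine Cech.ext _ _ fun a => ?_
  rw [Cech.ev_d, toP, toP, Cech.ev_mk, dT0]
  refine Eq.trans ?_ (map_sum (M.obj.map (iP A B h a).op).hom _ _).symm
  refine Finset.sum_congr rfl fun j _ => ?_
  rw [map_zsmul, Cech.ev_mk]
  refine congrArg (fun y => (-1 : ℤ) ^ (j : ℕ) • y) ?_
  show rs M (Cech.face (fam (T₀ A h) (π₀ A B h)) a j).left (rs M (iP A B h (a ∘ j.succAbove)) x) =
    rs M (iP A B h a) (rs M (sp h (δA A B n j)) x)
  rw [rs_rs, rs_rs, face_iP]

section Relative

variable {T' : Over X} (g : T' ⟶ T₀ A h) [Algebra A Γ(T'.left, ⊤)]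
  (hg : CommRingCat.ofHom (algebraMap A Γ(T'.left, ⊤)) = φ' A h g)

/-- An intersection over the new base as the object of a tensor power with coefficients. -/
noncomputable def iP' {n : ℕ} (a : Fin (n + 1) → PUnit.{u + 2}) :
    (Cech.inter (fam T' (pullback.fst g.left (π₀ A B h))) a).left ⟶ Ob A h (Alg.RT A B Γ(T'.left, ⊤) n) :=
  Over.homMk ((Cech.inter (fam T' (pullback.fst g.left (π₀ A B h))) a).left.left.toSpecΓ ≫
    Spec.map (CommRingCat.ofHom (ψ' A B h g hg a))) (by
    have e : CommRingCat.ofHom (algebraMap A (Alg.RT A B Γ(T'.left, ⊤) n)) ≫ CommRingCat.ofHom (ψ' A B h g hg a) =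
        φ' A h g ≫ (Cech.inter (fam T' (pullback.fst g.left (π₀ A B h))) a).hom.left.appTop := by
      refine CommRingCat.hom_ext (RingHom.ext fun x => ?_)
      refine ((exists_ψ' A B h g hg a).choose_spec.1 (algebraMap A Γ(T'.left, ⊤) x)).trans ?_
      exact congrArg (fun f => (f ≫ (Cech.inter (fam T' (pullback.fst g.left (π₀ A B h))) a).hom.left.appTop).hom x) hg
    show (_ ≫ Spec.map _) ≫ Spec.map _ ≫ h = _
    rw [Category.assoc, ← Spec.map_comp_assoc, e]
    simp only [φ', Category.assoc, Spec.map_comp]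
    rw [← Scheme.toSpecΓ_naturality_assoc, ← Scheme.toSpecΓ_naturality_assoc]
    erw [toSpecΓ_SpecMap_ΓSpecIso_inv_assoc]
    exact (congrArg (_ ≫ ·) (Over.w g)).trans (Over.w (Cech.inter (fam T' (pullback.fst g.left (π₀ A B h))) a).hom))

/-- Cochains on the new base from sections over tensor powers with coefficients. -/
noncomputable def toP' {n : ℕ} (x : Sec M (Ob A h (Alg.RT A B Γ(T'.left, ⊤) n))) :
    Cn M T' (pullback.fst g.left (π₀ A B h)) n :=
  Cech.mk _ _ fun a => rs M (iP' A B h g hg a) x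

theorem face_iP' {n : ℕ} (a : Fin (n + 2) → PUnit.{u + 2}) (j : Fin (n + 2)) :
    (Cech.face (fam T' (pullback.fst g.left (π₀ A B h))) a j).left ≫ iP' A B h g hg (a ∘ j.succAbove) =
      iP' A B h g hg a ≫ sp h (Alg.face A B Γ(T'.left, ⊤) n j) := by
  refine Over.OverMorphism.ext ?_
  show (Cech.face (fam T' (pullback.fst g.left (π₀ A B h))) a j).left.left ≫ _ ≫ Spec.map _ =
    (_ ≫ Spec.map _) ≫ Spec.map _
  rw [Category.assoc, Scheme.toSpecΓ_naturality_assoc, ← Spec.map_comp, ← Spec.map_comp]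
  congr 2
  exact CommRingCat.hom_ext (RingHom.ext fun x => (face_ψ' A B h g hg a j x).symm)

theorem δ_toP' {n : ℕ} (x : Sec M (Ob A h (Alg.RT A B Γ(T'.left, ⊤) n))) :
    δ M T' (pullback.fst g.left (π₀ A B h)) n (toP' A B h M g hg x) =
      toP' A B h M g hg (dP h M Γ(T'.left, ⊤) B n x) := by
  refine Cech.ext _ _ fun a => ?_
  rw [Cech.ev_d, toP', toP', Cech.ev_mk, dP_apply]
  refine Eq.trans ?_ (map_sum (M.obj.map (iP' A B h g hg a).op).hom _ _).symm
  refine Finset.sum_congr rfl fun j _ => ?_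
  rw [map_zsmul, Cech.ev_mk]
  refine congrArg (fun y => (-1 : ℤ) ^ (j : ℕ) • y) ?_
  show rs M (Cech.face (fam T' (pullback.fst g.left (π₀ A B h))) a j).left
      (rs M (iP' A B h g hg (a ∘ j.succAbove)) x) =
    rs M (iP' A B h g hg a) (rs M (sp h (Alg.face A B Γ(T'.left, ⊤) n j)) x)
  rw [rs_rs, rs_rs, face_iP']

theorem toP'_zP {n : ℕ} (z : Sec M (Ob A h (T A B n))) :
    toP' A B h M g hg (zP h M Γ(T'.left, ⊤) B n z) = resC (Mor.bc g (π₀ A B h)) M (toP A B h M z) := by
  refine Cech.ext _ _ fun a => ?_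
  rw [toP', resC, Cech.ev_mk, Cech.ev_mk]
  change rs M (iP' A B h g hg a) (rs M (sp h _) z) = rs M (L' A B h g a).left (Cech.ev _ _ a (toP A B h M z))
  rw [toP, Cech.ev_mk, rs_rs, rs_rs]
  refine congrArg (fun q => rs M q z) (Over.OverMorphism.ext ?_)
  show (_ ≫ Spec.map _) ≫ Spec.map _ = (L' A B h g a).left.left ≫ _ ≫ Spec.map (ψ₀ A B h a)
  rw [Category.assoc, ← Spec.map_comp, Scheme.toSpecΓ_naturality_assoc, ← Spec.map_comp]
  congr 2
  exact CommRingCat.hom_ext (RingHom.ext fun x => (exists_ψ' A B h g hg a).choose_spec.2 x)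

end Relative

end Groth.Agent.Desc19b.SmoothFppf.Pts
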