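import Groth.Agent.Desc19b.SmoothFppf.Sol

/-!
# Weil restriction of a finitely presented algebra along a tensor power
-/

set_option autoImplicit false
set_option backward.isDefEq.respectTransparency.types false
set_option backward.isDefEq.respectTransparency false
set_option linter.style.haveILetI false
set_option linter.all false
set_option synthInstance.maxHeartbeats 400000

universe u

open TensorProduct

namespace Groth.Agent.Desc19b.SmoothFppf.Alg

open AmitsurCech

variable (A B : Type u) [CommRing A] [CommRing B] [Algebra A B] (D : Type u) [CommRing D] [Algebra A D]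

theorem exists_weil [Algebra.FinitePresentation A D] (n : ℕ) {m : ℕ} {p : (Fin m → A) →ₗ[A] T A B n}
    {σ : T A B n →ₗ[A] Fin m → A} (hpσ : p ∘ₗ σ = LinearMap.id) :
    ∃ (N : ℕ) (d : Fin N → D) (C : Type u) (_ : CommRing C) (_ : Algebra A C),
      Algebra.FinitePresentation A C ∧ ∃ (e : D →ₐ[A] RT A B C n) (g : Fin N → Fin m → C),
        (∀ j, e (d j) = comb A C p (g j)) ∧
        (∀ (R : Type u) [CommRing R] [Algebra A R] (φ : D →ₐ[A] RT A B R n) (a : Fin N → Fin m → R),
          (∀ j, comb A R p (a j) = φ (d j)) →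
            ∃ ψ : C →ₐ[A] R, (∀ j i, ψ (g j i) = a j i) ∧ (chg A B ψ n).comp e = φ) ∧
        ∀ (R : Type u) [CommRing R] [Algebra A R] (ψ ψ' : C →ₐ[A] R),
          (∀ j i, ψ (g j i) = ψ' (g j i)) → ψ = ψ' := by
  obtain ⟨N, f, hf, hker⟩ := Algebra.FinitePresentation.out (R := A) (A := D)
  obtain ⟨s, hs⟩ := hker
  let P := MvPolynomial (Fin N × Fin m) A
  let E : MvPolynomial (Fin N) A →ₐ[A] RT A B P n :=
    MvPolynomial.aeval fun j => comb A P p fun i => MvPolynomial.X (j, i)
  let I : Ideal P := Ideal.span (Set.range fun x : s × Fin m => coef A P σ x.2 (E x.1.1 - 0))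
  let q : P →ₐ[A] P ⧸ I := Ideal.Quotient.mkₐ A I
  have hle : ∀ x : MvPolynomial (Fin N) A, f x = 0 → chg A B q n (E x) = 0 := fun x hx => by
    have hx' : x ∈ Ideal.span (s : Set (MvPolynomial (Fin N) A)) := by rw [hs]; exact hx
    refine (Ideal.span_le (I := RingHom.ker ((chg A B q n).comp E))).2 ?_ hx'
    intro y hy
    rw [SetLike.mem_coe, RingHom.mem_ker]
    exact (chg_mk_eq A B hpσ I (v := E y) (v' := 0) fun i => Ideal.subset_span ⟨(⟨y, hy⟩, i), rfl⟩).trans
      (map_zero _)
  let e : D →ₐ[A] RT A B (P ⧸ I) n :=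
    AlgHom.liftOfSurjective f hf ((chg A B q n).comp E) fun x hx => hle x hx
  have he : ∀ x, e (f x) = chg A B q n (E x) := fun x => AlgHom.liftOfSurjective_apply f hf _ _ x
  refine ⟨N, fun j => f (MvPolynomial.X j), P ⧸ I, inferInstance, inferInstance, ?_, e,
    fun j i => q (MvPolynomial.X (j, i)), fun j => ?_, ?_, ?_⟩
  · exact Algebra.FinitePresentation.quotient (Submodule.fg_span (Set.finite_range _))
  · rw [he, show E (MvPolynomial.X j) = comb A P p fun i => MvPolynomial.X (j, i) from MvPolynomial.aeval_X _ _,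
      chg_comb]
    rfl
  · intro R _ _ φ a ha
    let ψ₀ : P →ₐ[A] R := MvPolynomial.aeval fun x => a x.1 x.2
    have hE : (chg A B ψ₀ n).comp E = φ.comp f := MvPolynomial.algHom_ext fun j => by
      rw [AlgHom.comp_apply, show E (MvPolynomial.X j) = comb A P p fun i => MvPolynomial.X (j, i) from
        MvPolynomial.aeval_X _ _, chg_comb, AlgHom.comp_apply, ← ha]
      exact congrArg (comb A R p) (funext fun i => MvPolynomial.aeval_X _ _)
    have hI : ∀ x ∈ I, ψ₀ x = 0 := fun x hx => by
      refine (Ideal.span_le (I := RingHom.ker ψ₀)).2 ?_ hx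
      rintro _ ⟨⟨⟨y, hy⟩, i⟩, rfl⟩
      refine map_coef_eq_zero A B ψ₀ ?_ i
      rw [map_zero]
      refine (congr($hE y)).trans ?_
      rw [AlgHom.comp_apply, show f y = 0 from (hs ▸ Ideal.subset_span hy : y ∈ RingHom.ker f.toRingHom), map_zero]
    refine ⟨Ideal.Quotient.liftₐ I ψ₀ hI, fun j i => MvPolynomial.aeval_X _ _, AlgHom.ext fun d => ?_⟩
    obtain ⟨x, rfl⟩ := hf d
    rw [AlgHom.comp_apply, he, chg_chg]
    exact congr($hE x)
  · intro R _ _ ψ ψ' h
    exact Ideal.Quotient.algHom_ext A (MvPolynomial.algHom_ext fun x => h x.1 x.2)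

end Groth.Agent.Desc19b.SmoothFppf.Alg
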