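import Groth.Agent.Desc19b.SmoothFppf.Lift
import Groth.Agent.Desc19b.SmoothFppf.Weil

/-!
# A smooth algebra of primitives of a cocycle of points
-/

set_option autoImplicit false
set_option backward.isDefEq.respectTransparency.types false
set_option backward.isDefEq.respectTransparency false
set_option linter.style.haveILetI false
set_option linter.all false
set_option synthInstance.maxHeartbeats 400000

universe u

open CategoryTheory CategoryTheory.Limits AlgebraicGeometry Opposite TensorProduct TopologicalSpace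

namespace Groth.Agent.Desc19b.SmoothFppf.Pts

open Groth.Agent.Desc19b.FppfEt AmitsurCech Alg

variable {A : Type u} [CommRing A] (B : Type u) [CommRing B] [Algebra A B]
  [Module.Finite A B] [Module.Projective A B] [Module.FaithfullyFlat A B]
  {X : Scheme.{u}} {h : Spec (CommRingCat.of A) ⟶ X} {M : EtFppf.AbF X} (ρ : Rep M (T₀ A h)) [Smooth ρ.p]

theorem exists_affine_chart (Z : Scheme.{u}) [Finite Z] (v : Z ⟶ ρ.G) :
    ∃ (ι : Type u) (U : ι → ρ.G.Opens) (D : Type u) (_ : CommRing D) (_ : Algebra A D)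
      (ζ : Spec (CommRingCat.of D) ≅ Wsum U), Algebra.Smooth A D ∧
      (ζ.hom ≫ qW U) ≫ ρ.p = Spec.map (CommRingCat.ofHom (algebraMap A D)) ∧
      ∀ O : Z → Z.Opens, (∀ z, (O z : Set Z) = {z}) → ∃ σ : Z ⟶ Wsum U, σ ≫ qW U = v := by
  choose U hU hz _hsub using fun z : Z =>
    exists_isAffineOpen_mem_and_subset (X := ρ.G) (x := v z) (U := ⊤) trivial
  haveI : ∀ z, IsAffine (U z).toScheme := hU
  let W : Scheme.{u} := Wsum U
  obtain ⟨cD, hcD⟩ : ∃ c, Spec.map c = W.isoSpec.inv ≫ qW U ≫ ρ.p := ⟨_, Spec.map_preimage _⟩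
  letI : Algebra A Γ(W, ⊤) := cD.hom.toAlgebra
  refine ⟨Z, U, Γ(W, ⊤), inferInstance, inferInstance, W.isoSpec.symm, ?_, ?_, fun O hO => ?_⟩
  · haveI : Smooth (qW U) := by
      haveI : ∀ i, Smooth (U i).ι := fun i => inferInstance
      exact IsZariskiLocalAtSource.sigmaDesc fun i => inferInstanceAs (Smooth (U i).ι)
    have : Smooth (Spec.map (CommRingCat.ofHom (algebraMap A Γ(W, ⊤)))) := by
      rw [show CommRingCat.ofHom (algebraMap A Γ(W, ⊤)) = cD from rfl, hcD]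
      infer_instance
    exact RingHom.smooth_algebraMap.1 ((HasRingHomProperty.Spec_iff (P := @Smooth)).1 this)
  · rw [Category.assoc, show CommRingCat.ofHom (algebraMap A Γ(W, ⊤)) = cD from rfl, hcD]
    rfl
  · obtain ⟨σ, hσ, -⟩ := exists_lift_Wsum U v O
      (fun i j hij => by rw [← Opens.coe_disjoint, hO, hO, Set.disjoint_singleton]; exact hij)
      (fun z => ⟨z, by rw [← SetLike.mem_coe, hO]; rfl⟩)
      (fun i z hzi => by
        rw [← SetLike.mem_coe, hO, Set.mem_singleton_iff] at hzi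
        rw [hzi]
        exact hz i)
    exact ⟨σ, hσ⟩

theorem fp_quot_away {C₀ : Type u} [CommRing C₀] [Algebra A C₀] [Algebra.FinitePresentation A C₀] (f : C₀)
    (I : Ideal (Localization.Away f)) (hI : I.FG) : Algebra.FinitePresentation A (Localization.Away f ⧸ I) := by
  haveI : Algebra.FinitePresentation C₀ (Localization.Away f) := IsLocalization.Away.finitePresentation f
  haveI : Algebra.FinitePresentation A (Localization.Away f) :=
    Algebra.FinitePresentation.trans A C₀ (Localization.Away f)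
  exact Algebra.FinitePresentation.quotient hI

theorem algHom_of_point {D : Type u} [CommRing D] [Algebra A D] {G : Scheme.{u}} (p : G ⟶ Spec (CommRingCat.of A))
    (q : Spec (CommRingCat.of D) ⟶ G) (hq : q ≫ p = Spec.map (CommRingCat.ofHom (algebraMap A D)))
    {S : Type u} [CommRing S] [Algebra A S] (s : Spec (CommRingCat.of S) ⟶ Spec (CommRingCat.of D))
    (hs : s ≫ q ≫ p = Spec.map (CommRingCat.ofHom (algebraMap A S))) :
    ∃ φ : D →ₐ[A] S, Spec.map (CommRingCat.ofHom φ.toRingHom) = s := by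
  obtain ⟨c, rfl⟩ : ∃ c, Spec.map c = s := ⟨_, Spec.map_preimage _⟩
  rw [hq, ← Spec.map_comp] at hs
  exact ⟨{ c.hom with commutes' := fun a => congrArg (fun F => F.hom a) (Spec.map_injective hs) }, rfl⟩

variable {B}

section Split

variable {D : Type u} [CommRing D] [Algebra A D] (qD : Spec (CommRingCat.of D) ⟶ ρ.G)

theorem pt_pm_point {S S' : Type u} [CommRing S] [Algebra A S] [CommRing S'] [Algebra A S'] (f : S →ₐ[A] S')
    (φ : D →ₐ[A] S) (φ' : D →ₐ[A] S') (hφ : f.comp φ = φ') (y : Sec M (Ob A h S))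
    (hy : pt ρ y = Spec.map (CommRingCat.ofHom φ.toRingHom) ≫ qD) :
    pt ρ (pm h M f y) = Spec.map (CommRingCat.ofHom φ'.toRingHom) ≫ qD := by
  rw [pt_pm, hy, ← Category.assoc, ← Spec.map_comp, ← CommRingCat.ofHom_comp, ← hφ]
  rfl

theorem exists_pt_point (hqp : qD ≫ ρ.p = Spec.map (CommRingCat.ofHom (algebraMap A D))) {S : Type u} [CommRing S]
    [Algebra A S] (φ : D →ₐ[A] S) : ∃ y, pt ρ y = Spec.map (CommRingCat.ofHom φ.toRingHom) ≫ qD :=
  exists_pt_eq ρ _ (by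
    rw [Category.assoc, hqp, ← Spec.map_comp, ← CommRingCat.ofHom_comp]
    exact congrArg (fun φ => Spec.map (CommRingCat.ofHom φ)) φ.comp_algebraMap)

theorem spec_map_comp {S S' : Type u} [CommRing S] [Algebra A S] [CommRing S'] [Algebra A S'] (f : S →ₐ[A] S')
    (φ : D →ₐ[A] S) :
    Spec.map (CommRingCat.ofHom (f.comp φ).toRingHom) =
      Spec.map (CommRingCat.ofHom f.toRingHom) ≫ Spec.map (CommRingCat.ofHom φ.toRingHom) := by
  rw [← Spec.map_comp]
  rfl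

theorem algHom_ext_of_spec {S : Type u} [CommRing S] [Algebra A S] {φ φ' : D →ₐ[A] S}
    (hφ : Spec.map (CommRingCat.ofHom φ.toRingHom) = Spec.map (CommRingCat.ofHom φ'.toRingHom)) : φ = φ' :=
  AlgHom.coe_ringHom_injective (congrArg CommRingCat.Hom.hom (Spec.map_injective hφ))

omit [Module.FaithfullyFlat A B] in
theorem coef_adjust {r m : ℕ} {p : (Fin m → A) →ₗ[A] T A B r} {σ : T A B r →ₗ[A] Fin m → A}
    (hpσ : p ∘ₗ σ = LinearMap.id) {R : Type u} [CommRing R] [Algebra A R] (J : Ideal R) (v : RT A B R r)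
    (c : Fin m → R ⧸ J) (hv : chg A B (Ideal.Quotient.mkₐ A J) r v = comb A (R ⧸ J) p c) :
    ∃ a : Fin m → R, comb A R p a = v ∧ ∀ i, Ideal.Quotient.mk J (a i) = c i := by
  choose a ha using fun i => Ideal.Quotient.mk_surjective (I := J) (c i)
  refine ⟨fun i => a i + coef A R σ i (v - comb A R p a), ?_, fun i => ?_⟩
  · have h := comb_coef A hpσ (v - comb A R p a)
    simp only [comb] at h ⊢
    simp only [add_tmul, Finset.sum_add_distrib]
    rw [h]
    abel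
  · rw [map_add, ha, add_eq_left]
    refine map_coef_eq_zero A B (Ideal.Quotient.mkₐ A J) ?_ i
    rw [hv, chg_comb]
    exact congrArg (comb A _ p) (funext fun j => (ha j).symm)

theorem isUnit_of_mk {R : Type u} [CommRing R] (J : Ideal R) (hJ : J ^ 2 = ⊥) (x : R)
    (hx : IsUnit (Ideal.Quotient.mk J x)) : IsUnit x := by
  obtain ⟨c, hc⟩ := hx.exists_right_inv
  obtain ⟨c', rfl⟩ := Ideal.Quotient.mk_surjective c
  have hm : x * c' - 1 ∈ J := Ideal.Quotient.eq.1 (by rw [map_mul, hc, map_one])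
  refine isUnit_of_mul_isUnit_left (y := c') ?_
  have h2 : (x * c' - 1) * (x * c' - 1) = 0 := by
    have := Ideal.mul_mem_mul hm hm
    rwa [← pow_two J, hJ, Ideal.mem_bot] at this
  exact ⟨⟨x * c', 2 - x * c', by linear_combination -h2, by linear_combination -h2⟩, rfl⟩

include ρ in
theorem formallySmooth_of_universal {W₀ : ρ.G.Opens} (hW₀ : IsAffineOpen W₀) (he₀ : ∀ a, e₀ ρ a ∈ W₀) {r : ℕ}
    (z : Sec M (Ob A h (T A B (r + 1)))) (hz : dT0 h M B (r + 1) z = 0)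
    [Algebra.FormallySmooth A D] {ι : Type u} {U : ι → ρ.G.Opens} (ζ : Spec (CommRingCat.of D) ≅ Wsum U)
    (hqp : (ζ.hom ≫ qW U) ≫ ρ.p = Spec.map (CommRingCat.ofHom (algebraMap A D)))
    {m N : ℕ} {p : (Fin m → A) →ₗ[A] T A B r} {σ : T A B r →ₗ[A] Fin m → A} (hpσ : p ∘ₗ σ = LinearMap.id)
    {C₀ : Type u} [CommRing C₀] [Algebra A C₀] (d : Fin N → D) (e : D →ₐ[A] RT A B C₀ r) (g : Fin N → Fin m → C₀)
    (hg : ∀ j, e (d j) = comb A C₀ p (g j))
    (huniv : ∀ (R : Type u) [CommRing R] [Algebra A R] (φ : D →ₐ[A] RT A B R r) (a : Fin N → Fin m → R),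
      (∀ j, comb A R p (a j) = φ (d j)) →
        ∃ ψ : C₀ →ₐ[A] R, (∀ j i, ψ (g j i) = a j i) ∧ (chg A B ψ r).comp e = φ)
    (hext : ∀ (R : Type u) [CommRing R] [Algebra A R] (ψ ψ' : C₀ →ₐ[A] R),
      (∀ j i, ψ (g j i) = ψ' (g j i)) → ψ = ψ')
    (yu : Sec M (Ob A h (RT A B C₀ r)))
    (hyu : pt ρ yu = Spec.map (CommRingCat.ofHom e.toRingHom) ≫ ζ.hom ≫ qW U)
    {C : Type u} [CommRing C] [Algebra A C] (i : C₀ →ₐ[A] C) (f : C₀) (hf : IsUnit (i f))
    (hsol : dP h M C B r (pm h M (chg A B i r) yu) = zP h M C B (r + 1) z)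
    (hlift : ∀ (R : Type u) [CommRing R] [Algebra A R] (ψ : C₀ →ₐ[A] R), IsUnit (ψ f) →
      dP h M R B r (pm h M (chg A B ψ r) yu) = zP h M R B (r + 1) z → ∃ π : C →ₐ[A] R, π.comp i = ψ)
    (hCext : ∀ (R : Type u) [CommRing R] [Algebra A R] (π π' : C →ₐ[A] R), π.comp i = π'.comp i → π = π') :
    Algebra.FormallySmooth A C := by
  rw [Algebra.FormallySmooth.iff_comp_surjective]
  intro R _ _ J hJ f₀
  have hJ' : J ^ 2 = ⊥ := hJ
  let qD := ζ.hom ≫ qW U
  let qR := Ideal.Quotient.mkₐ A J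
  let ψ₀ : C₀ →ₐ[A] R ⧸ J := f₀.comp i
  let φ₀ : D →ₐ[A] RT A B (R ⧸ J) r := (chg A B ψ₀ r).comp e
  have hy0 : dP h M (R ⧸ J) B r (pm h M (chg A B ψ₀ r) yu) = zP h M (R ⧸ J) B (r + 1) z := by
    rw [show chg A B ψ₀ r = (chg A B f₀ r).comp (chg A B i r) from AlgHom.ext fun x => (chg_chg A B i f₀ x).symm,
      ← pm_pm, ← pm_chg_dP, hsol, pm_chg_zP]
  have hpt0 : pt ρ (pm h M (chg A B ψ₀ r) yu) = Spec.map (CommRingCat.ofHom φ₀.toRingHom) ≫ qD :=
    pt_pm_point ρ qD _ _ _ rfl yu hyu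
  have hsur : Function.Surjective (chg A B qR r) :=
    Algebra.TensorProduct.map_surjective _ _ Ideal.Quotient.mk_surjective Function.surjective_id
  have hnil : IsNilpotent (RingHom.ker (chg A B qR r : RT A B R r →+* RT A B (R ⧸ J) r)) := by
    refine ⟨2, ?_⟩
    rw [pow_two, Ideal.zero_eq_bot, eq_bot_iff, Ideal.mul_le]
    intro x hx y hy
    exact (mul_eq_zero_of_mem A B J hJ' r hx hy).symm ▸ Submodule.zero_mem _
  obtain ⟨φt, hφt⟩ : ∃ φt : D →ₐ[A] RT A B R r, (chg A B qR r).comp φt = φ₀ :=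
    ⟨Algebra.FormallySmooth.liftOfSurjective φ₀ (chg A B qR r) hsur hnil, AlgHom.ext fun x =>
      (AlgHom.comp_apply _ _ _).trans
        (Algebra.FormallySmooth.liftOfSurjective_apply φ₀ (chg A B qR r) hsur hnil x)⟩
  obtain ⟨yt, hyt⟩ := exists_pt_point ρ qD hqp φt
  have hyt0 : pm h M (chg A B qR r) yt = pm h M (chg A B ψ₀ r) yu :=
    pt_injective ρ ((pt_pm_point ρ qD _ _ _ hφt yt hyt).trans hpt0.symm)
  obtain ⟨y', hy'q, hy'⟩ := exists_small_primitive B ρ J hJ' hW₀ he₀ r (zP h M R B (r + 1) z - dP h M R B r yt)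
    (by rw [map_sub, pm_chg_zP, pm_chg_dP, hyt0, hy0, sub_self])
    (by rw [map_sub, dP_zP_eq_zero h M B _ z hz, dP_dP, sub_zero])
  obtain ⟨y₁, hy₁, hy₁q⟩ : ∃ y₁, dP h M R B r y₁ = zP h M R B (r + 1) z ∧
      pm h M (chg A B qR r) y₁ = pm h M (chg A B ψ₀ r) yu :=
    ⟨yt + y', by rw [map_add, hy', add_sub_cancel], by rw [map_add, hy'q, add_zero, hyt0]⟩
  obtain ⟨σ₁, hσ₁, hσ₁c⟩ := exists_lift_of_thickening U
    (Spec.map (CommRingCat.ofHom (chg A B qR r).toRingHom))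
    (PrimeSpectrum.isClosedEmbedding_comap_of_surjective _ _ hsur)
    (comap_surjective_of_sq _ hsur fun x hx => mul_eq_zero_of_mem A B J hJ' r hx hx)
    (Spec.map (CommRingCat.ofHom φ₀.toRingHom) ≫ ζ.hom) (pt ρ y₁)
    (by rw [← pt_pm, hy₁q, hpt0, Category.assoc])
  obtain ⟨φ₁, hφ₁⟩ := algHom_of_point ρ.p qD hqp (σ₁ ≫ ζ.inv) (by
    simp only [qD, Category.assoc, Iso.inv_hom_id_assoc]
    rw [reassoc_of% hσ₁, pt_p])
  have hφ₁q : (chg A B qR r).comp φ₁ = φ₀ := algHom_ext_of_spec (by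
    rw [spec_map_comp, hφ₁, reassoc_of% hσ₁c, Iso.hom_inv_id, Category.comp_id])
  choose a₁ ha₁ ha₁q using fun j => coef_adjust hpσ J (φ₁ (d j)) (ψ₀ ∘ g j) (by
    rw [show chg A B qR r (φ₁ (d j)) = φ₀ (d j) from congr($hφ₁q (d j))]
    rw [show φ₀ (d j) = chg A B ψ₀ r (e (d j)) from rfl, hg, chg_comb])
  obtain ⟨ψ, hψg, hψe⟩ := huniv R φ₁ a₁ ha₁
  have hψq : qR.comp ψ = ψ₀ := hext _ _ _ fun j k => by
    rw [AlgHom.comp_apply, hψg]
    exact ha₁q j k
  have hfu : IsUnit (ψ f) := isUnit_of_mk J hJ' _ (by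
    rw [show Ideal.Quotient.mk J (ψ f) = f₀ (i f) from congr($hψq f)]
    exact hf.map f₀)
  have hyψ : pm h M (chg A B ψ r) yu = y₁ := pt_injective ρ ((pt_pm_point ρ qD _ _ _ hψe yu hyu).trans (by
    rw [hφ₁]
    simp only [qD, Category.assoc, Iso.inv_hom_id_assoc]
    rw [hσ₁]))
  obtain ⟨π, hπ⟩ := hlift R ψ hfu (by rw [hyψ, hy₁])
  exact ⟨π, hCext _ _ _ (by rw [AlgHom.comp_assoc, hπ]; exact hψq)⟩

include ρ in
theorem exists_equation_algebra {r : ℕ} (z : Sec M (Ob A h (T A B (r + 1))))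
    {C₀ : Type u} [CommRing C₀] [Algebra A C₀] [Algebra.FinitePresentation A C₀]
    (yu : Sec M (Ob A h (RT A B C₀ r))) {K : Type u} [Field K] [Algebra A K] (ψK : C₀ →ₐ[A] K)
    (hK : dP h M K B r (pm h M (chg A B ψK r) yu) = zP h M K B (r + 1) z) :
    ∃ (C : Type u) (_ : CommRing C) (_ : Algebra A C), Algebra.FinitePresentation A C ∧
      ∃ (i : C₀ →ₐ[A] C) (f : C₀), IsUnit (i f) ∧
        dP h M C B r (pm h M (chg A B i r) yu) = zP h M C B (r + 1) z ∧
        (∃ π : C →ₐ[A] K, π.comp i = ψK) ∧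
        (∀ (R : Type u) [CommRing R] [Algebra A R] (ψ : C₀ →ₐ[A] R), IsUnit (ψ f) →
          dP h M R B r (pm h M (chg A B ψ r) yu) = zP h M R B (r + 1) z → ∃ π : C →ₐ[A] R, π.comp i = ψ) ∧
        ∀ (R : Type u) [CommRing R] [Algebra A R] (π π' : C →ₐ[A] R), π.comp i = π'.comp i → π = π' := by
  haveI := finite_T A B (r + 1)
  haveI := projective_T A B (r + 1)
  obtain ⟨k, p', σ', -, -, hpσ'⟩ := Module.Finite.exists_comp_eq_id_of_projective A (T A B (r + 1))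
  obtain ⟨f, I, hf, hI, hiff⟩ := exists_equations ρ.p B (r + 1) (pt ρ (dP h M C₀ B r yu))
    (pt ρ (zP h M C₀ B (r + 1) z)) (by rw [pt_p, pt_p]) ψK
    (by rw [← pt_pm, ← pt_pm, pm_chg_dP, hK, pm_chg_zP])
  obtain ⟨s, hs⟩ := hI
  let i₁ : C₀ →ₐ[A] Localization.Away f := IsScalarTower.toAlgHom A C₀ (Localization.Away f)
  let I₁ : Ideal (Localization.Away f) :=
    Ideal.span (Set.range fun x : s × Fin k => coef A (Localization.Away f) σ' x.2 (x.1.1 - 0))
  have hsolve : ∀ (R : Type u) [CommRing R] [Algebra A R] (ψ : Localization.Away f →ₐ[A] R),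
      (∀ x ∈ I, chg A B ψ (r + 1) x = 0) ↔
        dP h M R B r (pm h M (chg A B (ψ.comp i₁) r) yu) = zP h M R B (r + 1) z := by
    intro R _ _ ψ
    rw [hiff R ψ, ← pt_pm, ← pt_pm, (pt_injective ρ).eq_iff, pm_chg_dP, pm_chg_zP]
  have hkills : ∀ (R : Type u) [CommRing R] [Algebra A R] (ψ : Localization.Away f →ₐ[A] R),
      (∀ x ∈ I, chg A B ψ (r + 1) x = 0) → ∀ x ∈ I₁, ψ x = 0 := by
    intro R _ _ ψ hψ x hx
    refine (Ideal.span_le (I := RingHom.ker ψ)).2 ?_ hx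
    rintro _ ⟨⟨⟨y, hy⟩, j⟩, rfl⟩
    refine map_coef_eq_zero A B ψ ?_ j
    rw [map_zero]
    exact hψ y (hs ▸ Ideal.subset_span hy)
  have hkill : ∀ x ∈ I, chg A B (Ideal.Quotient.mkₐ A I₁) (r + 1) x = 0 := fun x hx => by
    refine (Ideal.span_le (I := RingHom.ker (chg A B (Ideal.Quotient.mkₐ A I₁) (r + 1)))).2 ?_
      (hs ▸ hx : x ∈ Ideal.span (s : Set _))
    intro y hy
    rw [SetLike.mem_coe, RingHom.mem_ker]
    exact (chg_mk_eq A B hpσ' I₁ (v := y) (v' := 0) fun j => Ideal.subset_span ⟨(⟨y, hy⟩, j), rfl⟩).trans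
      (map_zero _)
  have hl : ∀ (R : Type u) [CommRing R] [Algebra A R] (ψ : C₀ →ₐ[A] R), IsUnit (ψ f) →
      dP h M R B r (pm h M (chg A B ψ r) yu) = zP h M R B (r + 1) z →
        ∃ π : (Localization.Away f ⧸ I₁) →ₐ[A] R, π.comp ((Ideal.Quotient.mkₐ A I₁).comp i₁) = ψ := by
    intro R _ _ ψ hu hsol
    let ψ₁ : Localization.Away f →ₐ[A] R := IsLocalization.Away.liftAlgHom (S := Localization.Away f) f (f := ψ) hu
    have hψ₁ : ψ₁.comp i₁ = ψ := AlgHom.ext fun x => IsLocalization.Away.lift_eq _ hu x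
    exact ⟨Ideal.Quotient.liftₐ I₁ ψ₁ (hkills R ψ₁ ((hsolve R ψ₁).2 (by rw [hψ₁]; exact hsol))),
      AlgHom.ext fun x => congr($hψ₁ x)⟩
  refine ⟨Localization.Away f ⧸ I₁, inferInstance, inferInstance,
    fp_quot_away f I₁ (Submodule.fg_span (Set.finite_range _)), (Ideal.Quotient.mkₐ A I₁).comp i₁, f,
    (IsLocalization.Away.algebraMap_isUnit (S := Localization.Away f) f).map (Ideal.Quotient.mkₐ A I₁),
    (hsolve _ (Ideal.Quotient.mkₐ A I₁)).1 hkill, hl K ψK (isUnit_iff_ne_zero.2 hf) hK, hl, ?_⟩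
  intro R _ _ π π' hπ
  exact Ideal.Quotient.algHom_ext A (IsLocalization.algHom_ext (Submonoid.powers f)
    (AlgHom.ext fun x => congr($hπ x)))

end Split

include ρ in
theorem exists_smooth_pts {W₀ : ρ.G.Opens} (hW₀ : IsAffineOpen W₀) (he₀ : ∀ a, e₀ ρ a ∈ W₀) (r : ℕ)
    (z : Sec M (Ob A h (T A B (r + 1)))) (hz : dT0 h M B (r + 1) z = 0) (𝔭 : PrimeSpectrum A) :
    ∃ (C : Type u) (_ : CommRing C) (_ : Algebra A C), Algebra.Smooth A C ∧
      (∃ x, PrimeSpectrum.comap (algebraMap A C) x = 𝔭) ∧ ∃ y, dP h M C B r y = zP h M C B (r + 1) z := by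
  haveI := finite_T A B r
  haveI := projective_T A B r
  let K := AlgebraicClosure 𝔭.asIdeal.ResidueField
  haveI : Nontrivial (K ⊗[A] B) := Module.FaithfullyFlat.rTensor_nontrivial A B K
  obtain ⟨𝔮, h𝔮⟩ := Ideal.exists_maximal (K ⊗[A] B)
  letI := Ideal.Quotient.field 𝔮
  let φB : B →ₐ[A] K := ((IsAlgClosed.lift : (K ⊗[A] B ⧸ 𝔮) →ₐ[K] K).restrictScalars A).comp
    ((Ideal.Quotient.mkₐ A 𝔮).comp Algebra.TensorProduct.includeRight)
  obtain ⟨y₀, hy₀⟩ := exists_primitive_of_point h M B (R := K) φB r (zP h M K B (r + 1) z)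
    (dP_zP_eq_zero h M B _ z hz)
  let ZK := Spec (CommRingCat.of (RT A B K r))
  haveI : Module.Finite K (RT A B K r) := inferInstanceAs (Module.Finite K (K ⊗[A] T A B r))
  haveI : IsArtinianRing (RT A B K r) := IsArtinianRing.of_finite K _
  haveI : Finite ZK := inferInstanceAs (Finite (PrimeSpectrum (RT A B K r)))
  haveI : DiscreteTopology ZK := inferInstanceAs (DiscreteTopology (PrimeSpectrum (RT A B K r)))
  obtain ⟨ι, U, D, _, _, ζ, hD, hqp, hlift⟩ := exists_affine_chart ρ ZK (pt ρ y₀)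
  obtain ⟨σK, hσK⟩ := hlift (fun z => ⟨{z}, isOpen_discrete _⟩) fun z => rfl
  obtain ⟨φK, hφK⟩ := algHom_of_point ρ.p (ζ.hom ≫ qW U) hqp (σK ≫ ζ.inv) (by
    simp only [Category.assoc, Iso.inv_hom_id_assoc]
    rw [reassoc_of% hσK, pt_p])
  obtain ⟨m, p, σ, -, -, hpσ⟩ := Module.Finite.exists_comp_eq_id_of_projective A (T A B r)
  haveI : Algebra.FinitePresentation A D := hD.finitePresentation
  haveI : Algebra.FormallySmooth A D := hD.formallySmooth
  obtain ⟨N, d, C₀, _, _, hC₀, e, g, hg, huniv, hext⟩ := exists_weil A B D r hpσ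
  obtain ⟨yu, hyu⟩ := exists_pt_point ρ (ζ.hom ≫ qW U) hqp e
  obtain ⟨ψK, -, hψK⟩ := huniv K φK (fun j i => coef A K σ i (φK (d j))) fun j => comb_coef A hpσ _
  have hyK : pm h M (chg A B ψK r) yu = y₀ := pt_injective ρ ((pt_pm_point ρ _ _ _ _ hψK yu hyu).trans (by
    rw [hφK]
    simp only [Category.assoc, Iso.inv_hom_id_assoc]
    rw [hσK]))
  haveI := hC₀
  obtain ⟨C, _, _, hC, i, f, hf, hsol, ⟨π, hπ⟩, hl, hCext⟩ :=
    exists_equation_algebra ρ z yu ψK (by rw [hyK, hy₀])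
  refine ⟨C, inferInstance, inferInstance,
    ⟨formallySmooth_of_universal ρ hW₀ he₀ z hz ζ hqp hpσ d e g hg huniv hext yu hyu i f hf hsol hl hCext, hC⟩,
    ⟨⟨RingHom.ker π, RingHom.ker_isPrime _⟩, PrimeSpectrum.ext ?_⟩, _, hsol⟩
  change (RingHom.ker π).comap (algebraMap A C) = 𝔭.asIdeal
  erw [RingHom.comap_ker]
  refine (congrArg RingHom.ker (π.comp_algebraMap)).trans ?_
  rw [IsScalarTower.algebraMap_eq A 𝔭.asIdeal.ResidueField K,
    RingHom.ker_comp_of_injective _ (RingHom.injective _), Ideal.ker_algebraMap_residueField]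

end Groth.Agent.Desc19b.SmoothFppf.Pts
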