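import Groth.Agent.Desc19b.SmoothFppf.PtsCochain
import Groth.Agent.Desc19b.SmoothFppf.PtsSol

/-!
# Sheaves represented by smooth group schemes have étale-locally trivial Čech cohomology of finite coverings
-/

set_option autoImplicit false
set_option backward.isDefEq.respectTransparency.types false
set_option backward.isDefEq.respectTransparency false
set_option linter.style.haveILetI false
set_option linter.all false
set_option synthInstance.maxHeartbeats 400000

universe u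

open CategoryTheory CategoryTheory.Limits AlgebraicGeometry Opposite TensorProduct TopologicalSpace

namespace Groth.Agent.Desc19b.SmoothFppf

open Groth.Agent.Desc19b.FppfEt Groth.Agent.SiteCoh AmitsurCech

variable {X : Scheme.{u}}

namespace Rep

variable {M : EtFppf.AbF X} {T T' : Over X} (ρ : Rep M T)

/-- The zero section. -/
noncomputable def zero : T.left ⟶ ρ.G := (ρ.eqv T (𝟙 T) 0).1

theorem eqv_zero (Q : Over X) (g : Q ⟶ T) : (ρ.eqv Q g 0).1 = g.left ≫ ρ.zero := by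
  have h := ρ.nat g (𝟙 T) (0 : Sec M T)
  rw [Category.comp_id, show rs M g (0 : Sec M T) = 0 from map_zero (M.obj.map g.op).hom] at h
  exact h

theorem eqv_congr (Q : Over X) {g g' : Q ⟶ T} (e : g = g') (x : Sec M Q) : (ρ.eqv Q g x).1 = (ρ.eqv Q g' x).1 := by
  subst e
  rfl

/-- Base change. -/
noncomputable def bc (q : T' ⟶ T) : Rep M T' where
  G := pullback ρ.p q.left
  p := pullback.snd ρ.p q.left
  eqv Q g := (ρ.eqv Q (g ≫ q)).trans
    { toFun := fun v => ⟨pullback.lift v.1 g.left v.2, pullback.lift_snd _ _ _⟩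
      invFun := fun v => ⟨v.1 ≫ pullback.fst _ _, by
        rw [Category.assoc, pullback.condition, ← Category.assoc, v.2]
        rfl⟩
      left_inv := fun v => Subtype.ext (pullback.lift_fst _ _ _)
      right_inv := fun v => Subtype.ext (pullback.hom_ext (pullback.lift_fst _ _ _)
        ((pullback.lift_snd _ _ _).trans v.2.symm)) }
  nat q' g x := by
    refine pullback.hom_ext ?_ ?_
    · refine (pullback.lift_fst _ _ _).trans ?_
      refine Eq.trans ?_ (Category.assoc _ _ _).symm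
      refine Eq.trans ?_ (congrArg (q'.left ≫ ·) (pullback.lift_fst _ _ _).symm)
      exact (ρ.eqv_congr _ (Category.assoc _ _ _) _).trans (ρ.nat q' (g ≫ q) x)
    · refine (pullback.lift_snd _ _ _).trans ?_
      refine Eq.trans ?_ (Category.assoc _ _ _).symm
      refine Eq.trans ?_ (congrArg (q'.left ≫ ·) (pullback.lift_snd _ _ _).symm)
      rfl

theorem zero_bc_fst (q : T' ⟶ T) : (ρ.bc q).zero ≫ pullback.fst _ _ = q.left ≫ ρ.zero := by
  refine (pullback.lift_fst _ _ _).trans ?_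
  rw [Category.id_comp]
  exact ρ.eqv_zero T' q

end Rep

namespace Pts

variable {A : Type u} [CommRing A] {h : Spec (CommRingCat.of A) ⟶ X} {M : EtFppf.AbF X} (ρ : Rep M (T₀ A h))

theorem e₀_eq : e₀ ρ = ρ.zero := by
  refine (ρ.eqv_zero _ (toBase A)).trans ?_
  show Spec.map (CommRingCat.ofHom (algebraMap A A)) ≫ ρ.zero = ρ.zero
  rw [show CommRingCat.ofHom (algebraMap A A) = 𝟙 (CommRingCat.of A) from rfl, Spec.map_id]
  exact Category.id_comp _

variable (B : Type u) [CommRing B] [Algebra A B] [Module.Finite A B] [Module.Projective A B]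
  [Module.FaithfullyFlat A B] [Algebra.FinitePresentation A B]

theorem exists_solution_affine [Smooth ρ.p] {W₀ : ρ.G.Opens} (hW₀ : IsAffineOpen W₀)
    (he₀ : ∀ a, e₀ ρ a ∈ W₀) (r : ℕ) (z : Cn M (T₀ A h) (π₀ A B h) (r + 1))
    (hz : δ M (T₀ A h) (π₀ A B h) (r + 1) z = 0) (t : Spec (CommRingCat.of A)) :
    ∃ (T' : Over X) (V' : Scheme.{u}) (π' : V' ⟶ T'.left) (m : Mor T' (T₀ A h) π' (π₀ A B h)),
      Etale m.g.left ∧ t ∈ Set.range m.g.left ∧ IsFinite π' ∧ Flat π' ∧ LocallyOfFinitePresentation π' ∧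
        Surjective π' ∧ ∃ w, δ M T' π' r w = resC m M z := by
  obtain ⟨z₀, hz₀⟩ := exists_toP A B h M z
  have hdz₀ : dT0 h M B (r + 1) z₀ = 0 := toP_injective A B h M (by rw [← δ_toP, hz₀, hz, toP_zero])
  obtain ⟨C, _, _, hC, ⟨x, hx⟩, y, hy⟩ := exists_smooth_pts ρ hW₀ he₀ r z₀ hdz₀ t
  let f : Spec (CommRingCat.of C) ⟶ Spec (CommRingCat.of A) := Spec.map (CommRingCat.ofHom (algebraMap A C))
  haveI : Smooth f := (HasRingHomProperty.Spec_iff (P := @Smooth)).2 (RingHom.smooth_algebraMap.2 hC)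
  obtain ⟨S', e, s', he, hs', σ, hσ⟩ := FlatMorSmoothSect.exists_section_etale_locally f x
  let T' : Over X := Over.mk (e ≫ h)
  let g : T' ⟶ T₀ A h := Over.homMk e
  letI : Algebra A Γ(T'.left, ⊤) := (φ' A h g).hom.toAlgebra
  have hg : CommRingCat.ofHom (algebraMap A Γ(T'.left, ⊤)) = φ' A h g := rfl
  let κ : C →ₐ[A] Γ(T'.left, ⊤) :=
    { ((Scheme.ΓSpecIso (CommRingCat.of C)).inv ≫ σ.appTop).hom with
      commutes' := fun a => congrArg (fun F => F.hom a)
        (show CommRingCat.ofHom (algebraMap A C) ≫ (Scheme.ΓSpecIso (CommRingCat.of C)).inv ≫ σ.appTop =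
          φ' A h g by
          rw [Scheme.ΓSpecIso_inv_naturality_assoc, ← Scheme.Hom.comp_appTop, hσ]
          rfl) }
  haveI : IsFinite (π₀ A B h) := (IsFinite.SpecMap_iff _).2 (RingHom.finite_algebraMap.2 inferInstance)
  haveI : Flat (π₀ A B h) := (HasRingHomProperty.Spec_iff (P := @Flat)).2
    (RingHom.flat_algebraMap_iff.2 inferInstance)
  haveI : LocallyOfFinitePresentation (π₀ A B h) := (HasRingHomProperty.Spec_iff
    (P := @LocallyOfFinitePresentation)).2 (RingHom.finitePresentation_algebraMap.2 inferInstance)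
  haveI : Surjective (π₀ A B h) := ⟨PrimeSpectrum.comap_surjective_of_faithfullyFlat⟩
  refine ⟨T', _, pullback.fst g.left (π₀ A B h), Mor.bc g (π₀ A B h),
    he, ⟨s', hs'.trans hx⟩, MorphismProperty.pullback_fst _ _ ‹IsFinite (π₀ A B h)›,
    MorphismProperty.pullback_fst _ _ ‹Flat (π₀ A B h)›,
    MorphismProperty.pullback_fst _ _ ‹LocallyOfFinitePresentation (π₀ A B h)›,
    MorphismProperty.pullback_fst _ _ ‹Surjective (π₀ A B h)›,
    toP' A B h M g hg (pm h M (Alg.chg A B κ r) y), ?_⟩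
  rw [δ_toP', ← pm_chg_dP, hy, pm_chg_zP, toP'_zP, hz₀]

end Pts

theorem exists_nice_chart {M : EtFppf.AbF X} (hM : ∀ T : Over X, ∃ ρ : Rep M T, Smooth ρ.p) (T : Over X)
    (t : T.left) : ∃ (U : T.left.Opens) (hU : IsAffineOpen U), t ∈ U ∧
      ∃ (ρ : Rep M (T₀ Γ(T.left, U) (hU.fromSpec ≫ T.hom))) (W₀ : ρ.G.Opens),
        Smooth ρ.p ∧ IsAffineOpen W₀ ∧ ∀ a, Pts.e₀ ρ a ∈ W₀ := by
  obtain ⟨_, ⟨U, (hU : IsAffineOpen U), rfl⟩, htU, -⟩ := T.left.isBasis_affineOpens.exists_subset_of_mem_open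
    (Set.mem_univ t) isOpen_univ
  obtain ⟨ρ, hρ⟩ := hM (T₀ Γ(T.left, U) (hU.fromSpec ≫ T.hom))
  let t₀ : Spec Γ(T.left, U) := hU.primeIdealOf ⟨t, htU⟩
  obtain ⟨_, ⟨W, (hW : IsAffineOpen W), rfl⟩, htW, -⟩ := ρ.G.isBasis_affineOpens.exists_subset_of_mem_open
    (Set.mem_univ (ρ.zero t₀)) isOpen_univ
  haveI : IsOpenImmersion hU.fromSpec := inferInstance
  obtain ⟨_, ⟨U', (hU' : IsAffineOpen U'), rfl⟩, htU', hU'W⟩ :=
    T.left.isBasis_affineOpens.exists_subset_of_mem_open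
      (show t ∈ hU.fromSpec '' (ρ.zero ⁻¹' (W : Set ρ.G)) from ⟨t₀, htW, hU.fromSpec_primeIdealOf ⟨t, htU⟩⟩)
      (hU.fromSpec.isOpenEmbedding.isOpenMap _ (W.isOpen.preimage ρ.zero.continuous))
  let l := IsOpenImmersion.lift hU.fromSpec hU'.fromSpec (by
    rw [hU'.range_fromSpec]
    exact hU'W.trans (Set.image_subset_range _ _))
  have hl : l ≫ hU.fromSpec = hU'.fromSpec := IsOpenImmersion.lift_fac _ _ _
  let q : T₀ Γ(T.left, U') (hU'.fromSpec ≫ T.hom) ⟶ T₀ Γ(T.left, U) (hU.fromSpec ≫ T.hom) :=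
    Over.homMk l (by show l ≫ hU.fromSpec ≫ T.hom = _; rw [reassoc_of% hl]; rfl)
  haveI : IsAffineHom q.left := inferInstanceAs (IsAffineHom l)
  haveI : IsAffineHom (pullback.fst ρ.p q.left) := MorphismProperty.pullback_fst _ _ ‹IsAffineHom q.left›
  refine ⟨U', hU', htU', ρ.bc q, pullback.fst ρ.p q.left ⁻¹ᵁ W, MorphismProperty.pullback_snd _ _ hρ,
    hW.preimage _, fun a => ?_⟩
  show ((Pts.e₀ (ρ.bc q)) ≫ pullback.fst _ _) a ∈ W
  rw [Pts.e₀_eq, Rep.zero_bc_fst, Scheme.Hom.comp_apply]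
  have hlt : hU.fromSpec (l a) ∈ hU.fromSpec '' (ρ.zero ⁻¹' (W : Set ρ.G)) := by
    refine hU'W ?_
    rw [← Scheme.Hom.comp_apply, hl]
    exact hU'.range_fromSpec.subset ⟨a, rfl⟩
  exact hU.fromSpec.isOpenEmbedding.injective.mem_set_image.1 hlt

/-- A sheaf represented by smooth group schemes has étale-locally trivial Čech cohomology of finite coverings. -/
theorem goodCoeff_of_rep {M : EtFppf.AbF X} (hM : ∀ T : Over X, ∃ ρ : Rep M T, Smooth ρ.p) : GoodCoeff M := by
  intro T V π _ _ _ _ r z hz t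
  obtain ⟨U, hU, htU, ρ, W₀, hρ, hW₀, he₀⟩ := exists_nice_chart hM T t
  have hV : IsAffineOpen (π ⁻¹ᵁ U) := hU.preimage π
  let A := Γ(T.left, U)
  let B := Γ(V, π ⁻¹ᵁ U)
  let φ := π.appLE U (π ⁻¹ᵁ U) le_rfl
  algebraize [φ.hom]
  haveI : Module.Finite A B := by
    have := IsFinite.finite_app π U hU
    rw [← π.appLE_eq_app] at this
    exact this
  haveI : Module.Flat A B := Flat.flat_appLE π hU hV le_rfl
  haveI : Algebra.FinitePresentation A B :=
    LocallyOfFinitePresentation.finitePresentation_appLE π hU hV le_rfl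
  haveI : Module.FinitePresentation A B := Module.FinitePresentation.of_finite_of_finitePresentation A B
  haveI : Module.Projective A B := Module.Flat.projective_of_finitePresentation
  let h := hU.fromSpec ≫ T.hom
  have hsq : Spec.map φ ≫ hU.fromSpec = hV.fromSpec ≫ π := hU.SpecMap_appLE_fromSpec π hV le_rfl
  haveI : Module.FaithfullyFlat A B := by
    refine Module.FaithfullyFlat.of_comap_surjective fun P => ?_
    obtain ⟨x, hx⟩ := π.surjective (hU.fromSpec P)
    have hxU : x ∈ π ⁻¹ᵁ U := by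
      show π x ∈ U
      rw [hx]
      exact hU.range_fromSpec.subset ⟨P, rfl⟩
    refine ⟨hV.primeIdealOf ⟨x, hxU⟩, hU.fromSpec.isOpenEmbedding.injective ?_⟩
    show (Spec.map φ ≫ hU.fromSpec) (hV.primeIdealOf ⟨x, hxU⟩) = hU.fromSpec P
    rw [hsq, Scheme.Hom.comp_apply, hV.fromSpec_primeIdealOf, hx]
  let g₀ : T₀ A h ⟶ T := Over.homMk hU.fromSpec
  let m₀ : Mor (T₀ A h) T (π₀ A B h) π := ⟨g₀, hV.fromSpec, hsq.symm⟩
  haveI := hρ
  obtain ⟨T', V', π', m, he, ⟨s, hs⟩, h₃, h₄, h₅, h₆, w, hw⟩ :=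
    Pts.exists_solution_affine ρ B hW₀ he₀ r (resC m₀ M z) (by rw [← resC_δ, hz, resC_zero])
      (hU.primeIdealOf ⟨t, htU⟩)
  haveI : IsOpenImmersion hU.fromSpec := inferInstance
  haveI := he
  refine ⟨T', V', π', m.comp m₀, inferInstanceAs (Etale (m.g.left ≫ hU.fromSpec)), ⟨s, ?_⟩, h₃, h₄, h₅, h₆, w, ?_⟩
  · show hU.fromSpec (m.g.left s) = t
    rw [hs]
    exact hU.fromSpec_primeIdealOf ⟨t, htU⟩
  · rw [hw, resC_comp]

end Groth.Agent.Desc19b.SmoothFppf
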