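import Groth.Agent.Desc19b.SmoothFppf.PtsGood
import Groth.Prelude.Def_CGrpSh

/-!
# Smooth group schemes: fppf and étale cohomology agree
-/

set_option autoImplicit false
set_option backward.isDefEq.respectTransparency.types false
set_option backward.isDefEq.respectTransparency false
set_option linter.style.haveILetI false
set_option linter.all false
set_option synthInstance.maxHeartbeats 400000

universe u

open CategoryTheory CategoryTheory.Limits AlgebraicGeometry Opposite

namespace Groth.Agent.Desc19b.SmoothFppf

open Groth.Agent.Desc19b.FppfEt

variable {S : Scheme.{u}} (G : Over S) [GrpObj G] [IsCommMonObj G]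

/-- Points of a group scheme as points of its base change. -/
noncomputable def repPts (T : Over S) : Rep (CGrpSh.pts Scheme.fppfPrecoverage G) T where
  G := pullback G.hom T.hom
  p := pullback.snd _ _
  eqv Q g :=
    { toFun := fun x => ⟨pullback.lift (ULift.down x).toMul.left g.left
          ((Over.w (ULift.down x).toMul).trans (Over.w g).symm), pullback.lift_snd _ _ _⟩
      invFun := fun v => ULift.up (Additive.ofMul (Over.homMk (v.1 ≫ pullback.fst _ _)
        (by rw [Category.assoc, pullback.condition, ← Category.assoc, v.2]; exact Over.w g) : Q ⟶ G))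
      left_inv := fun x => congrArg (fun y => ULift.up (Additive.ofMul y))
        (Over.OverMorphism.ext (pullback.lift_fst _ _ _))
      right_inv := fun v => Subtype.ext (pullback.hom_ext (pullback.lift_fst _ _ _)
        ((pullback.lift_snd _ _ _).trans v.2.symm)) }
  nat q g x := by
    refine pullback.hom_ext ?_ ?_
    · refine (pullback.lift_fst _ _ _).trans ?_
      refine Eq.trans ?_ (Category.assoc _ _ _).symm
      refine Eq.trans ?_ (congrArg (q.left ≫ ·) (pullback.lift_fst _ _ _).symm)
      rfl
    · refine (pullback.lift_snd _ _ _).trans ?_
      refine Eq.trans ?_ (Category.assoc _ _ _).symm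
      refine Eq.trans ?_ (congrArg (q.left ≫ ·) (pullback.lift_snd _ _ _).symm)
      rfl

/-- A smooth commutative group scheme has good coefficients. -/
theorem goodCoeff_pts [Smooth G.hom] : GoodCoeff (CGrpSh.pts Scheme.fppfPrecoverage G) :=
  goodCoeff_of_rep fun T => ⟨repPts G T, MorphismProperty.pullback_snd _ _ ‹Smooth G.hom›⟩

end Groth.Agent.Desc19b.SmoothFppf
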