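import Groth.Agent.Desc19b.SmoothFppf.PtsAlg

/-!
# Small cocycles of points are coboundaries
-/

set_option autoImplicit false
set_option backward.isDefEq.respectTransparency.types false
set_option backward.isDefEq.respectTransparency false
set_option linter.style.haveILetI false
set_option linter.all false
set_option synthInstance.maxHeartbeats 400000

universe u

open CategoryTheory CategoryTheory.Limits AlgebraicGeometry Opposite TensorProduct

namespace Groth.Agent.Desc19b.SmoothFppf.Pts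

open Groth.Agent.Desc19b.FppfEt AmitsurCech Alg

theorem comap_surjective_of_sq {S₁ S₂ : Type u} [CommRing S₁] [CommRing S₂] (f : S₁ →+* S₂)
    (hf : Function.Surjective f) (hk : ∀ x, f x = 0 → x * x = 0) : Function.Surjective (PrimeSpectrum.comap f) :=
  fun p => by
    haveI : (p.asIdeal.map f).IsPrime := Ideal.map_isPrime_of_surjective hf fun x hx =>
      (p.isPrime.mem_or_mem (show x * x ∈ p.asIdeal by rw [hk x hx]; exact zero_mem _)).elim id id
    refine ⟨⟨p.asIdeal.map f, inferInstance⟩, PrimeSpectrum.ext ?_⟩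
    change (p.asIdeal.map f).comap f = p.asIdeal
    rw [Ideal.comap_map_of_surjective f hf, sup_eq_left]
    intro x hx
    exact (p.isPrime.mem_or_mem (show x * x ∈ p.asIdeal by
      rw [hk x (by simpa using hx)]; exact zero_mem _)).elim id id

theorem exists_open_factor {G : Scheme.{u}} {W : G.Opens} (hW : IsAffineOpen W) {S : Type u} [CommRing S]
    (v : Spec (CommRingCat.of S) ⟶ G) (hv : ∀ x, v x ∈ W) :
    ∃ φ : Γ(G, W) ⟶ CommRingCat.of S, Spec.map φ ≫ hW.fromSpec = v := by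
  let l := IsOpenImmersion.lift hW.fromSpec v (by
    rw [hW.range_fromSpec]
    rintro _ ⟨x, rfl⟩
    exact hv x)
  exact ⟨Spec.preimage l, by rw [Spec.map_preimage]; exact IsOpenImmersion.lift_fac _ _ _⟩

variable (A B : Type u) [CommRing A] [CommRing B] [Algebra A B]

section Retraction

theorem exists_retraction_T [Module.Finite A B] [Module.Projective A B] [Module.FaithfullyFlat A B] (n : ℕ) :
    ∃ ε : T A B n →ₗ[A] A, ε 1 = 1 := by
  obtain ⟨s, hs1⟩ := exists_retraction A B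
  induction n with
  | zero => exact ⟨s ∘ₗ (T0Equiv A B).symm.toLinearMap, by simp [hs1]⟩
  | succ n ih =>
    obtain ⟨ε, hε⟩ := ih
    refine ⟨ε ∘ₗ hs A B s n, ?_⟩
    simp [hs, sl, Algebra.TensorProduct.one_def, hs1, hε]

variable (R : Type u) [CommRing R] [Algebra A R]

theorem includeLeft_injective' [Module.Finite A B] [Module.Projective A B] [Module.FaithfullyFlat A B] (n : ℕ) :
    Function.Injective (Algebra.TensorProduct.includeLeft : R →ₐ[A] RT A B R n) := by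
  obtain ⟨ε, hε⟩ := exists_retraction_T A B n
  intro x y hxy
  have := congrArg ((TensorProduct.rid A R).toLinearMap ∘ₗ ε.lTensor R) hxy
  simpa [hε] using this

variable {s : B →ₗ[A] A}

theorem hL_one_tmul (hs1 : s 1 = 1) (n : ℕ) (x : R) : hL A B R s n (x ⊗ₜ 1) = x ⊗ₜ 1 := by
  simp [hL, hs, sl, Algebra.TensorProduct.one_def, hs1]

theorem hL_mul (n : ℕ) (x : R) (y : RT A B R (n + 1)) :
    hL A B R s n ((x ⊗ₜ 1) * y) = (x ⊗ₜ 1) * hL A B R s n y := by
  induction y using TensorProduct.induction_on with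
  | zero => simp
  | add a b ha hb => simp only [mul_add, map_add, ha, hb]
  | tmul a t => simp [hL]

theorem hL_zero_face (hs1 : s 1 = 1) (n : ℕ) (x : RT A B R n) : hL A B R s n (face A B R n 0 x) = x := by
  have : hL A B R s n ∘ₗ (face A B R n 0).toLinearMap = LinearMap.id := by
    ext a t
    simp [hL, face, hs_zero A B hs1]
  exact congr($this x)

theorem hL_succ_face (n : ℕ) (k : Fin (n + 2)) (x : RT A B R (n + 1)) :
    hL A B R s (n + 1) (face A B R (n + 1) k.succ x) = face A B R n k (hL A B R s n x) := by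
  have : hL A B R s (n + 1) ∘ₗ (face A B R (n + 1) k.succ).toLinearMap =
      (face A B R n k).toLinearMap ∘ₗ hL A B R s n := by
    ext a t
    simp [hL, face, hs_succ A B]
  exact congr($this x)

theorem chg_hL {R' : Type u} [CommRing R'] [Algebra A R'] (ψ : R →ₐ[A] R') (n : ℕ) (x : RT A B R (n + 1)) :
    chg A B ψ n (hL A B R s n x) = hL A B R' s n (chg A B ψ (n + 1) x) := by
  have : (chg A B ψ n).toLinearMap ∘ₗ hL A B R s n = hL A B R' s n ∘ₗ (chg A B ψ (n + 1)).toLinearMap := by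
    ext a t
    simp [chg, hL]
  exact congr($this x)

end Retraction

section Small

variable [Module.Finite A B] [Module.Projective A B] [Module.FaithfullyFlat A B]
  {R : Type u} [CommRing R] [Algebra A R] (J : Ideal R) (hJ : J ^ 2 = ⊥)

/-- Elements constant modulo the ideal. -/
noncomputable def SS (n : ℕ) : Subalgebra A (RT A B R n) :=
  (Algebra.TensorProduct.includeLeft : (R ⧸ J) →ₐ[A] RT A B (R ⧸ J) n).range.comap
    (chg A B (Ideal.Quotient.mkₐ A J) n)

/-- The constant value. -/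
noncomputable def σ (n : ℕ) : SS A B J n →ₐ[A] R ⧸ J :=
  ((AlgEquiv.ofInjective _ (includeLeft_injective' A B (R ⧸ J) n)).symm :
      ↥(Algebra.TensorProduct.includeLeft : (R ⧸ J) →ₐ[A] RT A B (R ⧸ J) n).range →ₐ[A] R ⧸ J).comp
    (((chg A B (Ideal.Quotient.mkₐ A J) n).comp (SS A B J n).val).codRestrict _ fun x => x.2)

theorem σ_spec (n : ℕ) (x : SS A B J n) : σ A B J n x ⊗ₜ[A] 1 = chg A B (Ideal.Quotient.mkₐ A J) n x.1 := by
  have h := (AlgEquiv.ofInjective _ (includeLeft_injective' A B (R ⧸ J) n)).apply_symm_apply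
    ⟨chg A B (Ideal.Quotient.mkₐ A J) n x.1, x.2⟩
  exact congrArg Subtype.val h

theorem σ_unique (n : ℕ) (x : SS A B J n) (c : R ⧸ J)
    (hc : chg A B (Ideal.Quotient.mkₐ A J) n x.1 = c ⊗ₜ[A] 1) : σ A B J n x = c :=
  includeLeft_injective' A B (R ⧸ J) n ((σ_spec A B J n x).trans hc)

theorem mem_SS (n : ℕ) {y : RT A B R n} (c : R ⧸ J) (hy : chg A B (Ideal.Quotient.mkₐ A J) n y = c ⊗ₜ[A] 1) :
    y ∈ SS A B J n := ⟨c, hy.symm⟩

theorem face_mem_SS (n : ℕ) (k : Fin (n + 2)) (x : SS A B J n) :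
    chg A B (Ideal.Quotient.mkₐ A J) (n + 1) (face A B R n k x.1) = σ A B J n x ⊗ₜ[A] 1 := by
  rw [chg_face, ← σ_spec, face_tmul, map_one]

/-- Cofaces of small elements. -/
noncomputable def faceS (n : ℕ) (k : Fin (n + 2)) : SS A B J n →ₐ[A] SS A B J (n + 1) :=
  ((face A B R n k).comp (SS A B J n).val).codRestrict _ fun x =>
    mem_SS A B J _ _ (face_mem_SS A B J n k x)

theorem σ_faceS (n : ℕ) (k : Fin (n + 2)) : (σ A B J (n + 1)).comp (faceS A B J n k) = σ A B J n :=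
  AlgHom.ext fun x => σ_unique A B J _ _ _ (face_mem_SS A B J n k x)

include hJ in
theorem σ_props (n : ℕ) : Function.Surjective (σ A B J n) ∧ ∀ x, σ A B J n x = 0 → x * x = 0 := by
  refine ⟨fun c => ?_, fun x hx => Subtype.ext ?_⟩
  · obtain ⟨r, rfl⟩ := Ideal.Quotient.mk_surjective c
    have : chg A B (Ideal.Quotient.mkₐ A J) n (r ⊗ₜ 1) = Ideal.Quotient.mk J r ⊗ₜ[A] 1 := by simp [chg]
    exact ⟨⟨r ⊗ₜ 1, mem_SS A B J n _ this⟩, σ_unique A B J n _ _ this⟩
  · have hx' : x.1 ∈ K A B J n := by rw [RingHom.mem_ker, ← σ_spec, hx, zero_tmul]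
    exact mul_eq_zero_of_mem A B J hJ n hx' hx'

variable {s : B →ₗ[A] A} (hs1 : s 1 = 1)

include hs1 in
theorem hL_mem (n : ℕ) (x : SS A B J (n + 1)) :
    chg A B (Ideal.Quotient.mkₐ A J) n (hL A B R s n x.1) = σ A B J (n + 1) x ⊗ₜ[A] 1 := by
  rw [chg_hL, ← σ_spec, hL_one_tmul A B _ hs1]

include hs1 hJ in
theorem exists_H (n : ℕ) : ∃ H : SS A B J (n + 1) →ₐ[A] SS A B J n, ∀ x, (H x).1 = hL A B R s n x.1 := by
  have hmul : ∀ x y : SS A B J (n + 1), hL A B R s n (x.1 * y.1) = hL A B R s n x.1 * hL A B R s n y.1 := by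
    intro x y
    obtain ⟨a, ha⟩ := Ideal.Quotient.mk_surjective (σ A B J (n + 1) x)
    obtain ⟨b, hb⟩ := Ideal.Quotient.mk_surjective (σ A B J (n + 1) y)
    have hk : ∀ (z : SS A B J (n + 1)) (c : R), Ideal.Quotient.mk J c = σ A B J (n + 1) z →
        z.1 - c ⊗ₜ 1 ∈ K A B J (n + 1) ∧ hL A B R s n (z.1 - c ⊗ₜ 1) ∈ K A B J n := fun z c hc => by
      have h0 : chg A B (Ideal.Quotient.mkₐ A J) (n + 1) (z.1 - c ⊗ₜ 1) = 0 := by
        rw [map_sub, ← σ_spec, ← hc]; simp [chg]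
      exact ⟨h0, by rw [RingHom.mem_ker, chg_hL, h0, map_zero]⟩
    obtain ⟨hx, hx'⟩ := hk x a ha
    obtain ⟨hy, hy'⟩ := hk y b hb
    set u := x.1 - a ⊗ₜ 1 with hu
    set v := y.1 - b ⊗ₜ 1 with hv
    have ex : x.1 = a ⊗ₜ 1 + u := (add_sub_cancel _ _).symm
    have ey : y.1 = b ⊗ₜ 1 + v := (add_sub_cancel _ _).symm
    rw [ex, ey, map_add, map_add, hL_one_tmul A B R hs1, hL_one_tmul A B R hs1]
    have e1 : ((a ⊗ₜ 1 : RT A B R (n + 1)) + u) * (b ⊗ₜ 1 + v) =
        (a * b) ⊗ₜ 1 + (a ⊗ₜ 1) * v + (b ⊗ₜ 1) * u := by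
      have hab : (a ⊗ₜ 1 : RT A B R (n + 1)) * (b ⊗ₜ 1) = (a * b) ⊗ₜ 1 := by simp
      linear_combination mul_eq_zero_of_mem A B J hJ (n + 1) hx hy + hab
    rw [e1, map_add, map_add, hL_mul, hL_mul, hL_one_tmul A B R hs1]
    have hab : (a ⊗ₜ 1 : RT A B R n) * (b ⊗ₜ 1) = (a * b) ⊗ₜ 1 := by simp
    linear_combination -mul_eq_zero_of_mem A B J hJ n hx' hy' - hab
  let f : SS A B J (n + 1) →ₗ[A] RT A B R n := hL A B R s n ∘ₗ (SS A B J (n + 1)).val.toLinearMap
  let H₀ : SS A B J (n + 1) →ₐ[A] RT A B R n := AlgHom.ofLinearMap f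
    (by show hL A B R s n ((1 : R) ⊗ₜ (1 : T A B (n + 1))) = (1 : R) ⊗ₜ (1 : T A B n)
        exact hL_one_tmul A B R hs1 n 1)
    fun x y => hmul x y
  exact ⟨H₀.codRestrict _ fun x => mem_SS A B J n _ (hL_mem A B J hs1 n x), fun x => rfl⟩

/-- The contraction on small elements. -/
noncomputable def H (n : ℕ) : SS A B J (n + 1) →ₐ[A] SS A B J n := (exists_H A B J hJ hs1 n).choose

theorem H_val (n : ℕ) (x : SS A B J (n + 1)) : (H A B J hJ hs1 n x).1 = hL A B R s n x.1 :=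
  (exists_H A B J hJ hs1 n).choose_spec x

theorem σ_H (n : ℕ) : (σ A B J n).comp (H A B J hJ hs1 n) = σ A B J (n + 1) :=
  AlgHom.ext fun x => σ_unique A B J _ _ _ (by erw [H_val]; exact hL_mem A B J hs1 n x)

theorem H_faceS_zero (n : ℕ) : (H A B J hJ hs1 n).comp (faceS A B J n 0) = AlgHom.id A _ :=
  AlgHom.ext fun x => Subtype.ext (by
    show (H A B J hJ hs1 n _).1 = x.1
    rw [H_val]
    exact hL_zero_face A B R hs1 n x.1)

theorem H_faceS_succ (n : ℕ) (k : Fin (n + 2)) :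
    (H A B J hJ hs1 (n + 1)).comp (faceS A B J (n + 1) k.succ) = (faceS A B J n k).comp (H A B J hJ hs1 n) :=
  AlgHom.ext fun x => Subtype.ext (by
    show (H A B J hJ hs1 (n + 1) _).1 = face A B R n k (H A B J hJ hs1 n x).1
    rw [H_val, H_val]
    exact hL_succ_face A B R n k x.1)

end Small

section Cocycle

variable {A} {X : Scheme.{u}} {h : Spec (CommRingCat.of A) ⟶ X} {M : EtFppf.AbF X} (ρ : Rep M (T₀ A h))
  {R : Type u} [CommRing R] [Algebra A R] (J : Ideal R) (hJ : J ^ 2 = ⊥)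
  {W₀ : ρ.G.Opens} (hW₀ : IsAffineOpen W₀) (he₀ : ∀ a, e₀ ρ a ∈ W₀)

include he₀ in
theorem pt_mem {S₁ S₂ : Type u} [CommRing S₁] [Algebra A S₁] [CommRing S₂] [Algebra A S₂] (f : S₁ →ₐ[A] S₂)
    (hf : Function.Surjective (PrimeSpectrum.comap f.toRingHom)) (x : Sec M (Ob A h S₁))
    (hx : pm h M f x = 0) (p : Spec (CommRingCat.of S₁)) : pt ρ x p ∈ W₀ := by
  obtain ⟨q, rfl⟩ := hf p
  have e := congrArg (fun v : Spec (CommRingCat.of S₂) ⟶ ρ.G => v q) (pt_pm ρ f x)
  rw [hx, pt_zero] at e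
  show (Spec.map (CommRingCat.ofHom f.toRingHom) ≫ pt ρ x) q ∈ W₀
  rw [← show (Spec.map (CommRingCat.ofHom (algebraMap A S₂)) ≫ e₀ ρ) q =
    (Spec.map (CommRingCat.ofHom f.toRingHom) ≫ pt ρ x) q from e]
  exact he₀ _

variable [Module.Finite A B] [Module.Projective A B] [Module.FaithfullyFlat A B]

include hJ hW₀ he₀ in
theorem exists_small (n : ℕ) (x : Sec M (Ob A h (RT A B R n)))
    (hx : pm h M (chg A B (Ideal.Quotient.mkₐ A J) n) x = 0) :
    ∃ κ, pm h M (σ A B J n) κ = 0 ∧ pm h M (SS A B J n).val κ = x := by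
  let q := chg A B (Ideal.Quotient.mkₐ A J) n
  have hq : Function.Surjective q :=
    Algebra.TensorProduct.map_surjective _ _ Ideal.Quotient.mk_surjective Function.surjective_id
  have hqs := comap_surjective_of_sq q.toRingHom hq fun y hy => mul_eq_zero_of_mem A B J hJ n hy hy
  obtain ⟨φ, hφ⟩ := exists_open_factor hW₀ (pt ρ x) (pt_mem ρ he₀ q hqs x hx)
  obtain ⟨φ₀, hφ₀⟩ := exists_open_factor hW₀ (pt ρ (0 : Sec M (Ob A h (R ⧸ J)))) fun p => by
    rw [pt_zero]; exact he₀ _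
  let inc : (R ⧸ J) →ₐ[A] RT A B (R ⧸ J) n := Algebra.TensorProduct.includeLeft
  have hcomp : φ ≫ CommRingCat.ofHom q.toRingHom = φ₀ ≫ CommRingCat.ofHom inc.toRingHom := by
    refine Spec.map_injective ((cancel_mono hW₀.fromSpec).1 ?_)
    rw [Spec.map_comp, Spec.map_comp, Category.assoc, Category.assoc, hφ, hφ₀, ← pt_pm, ← pt_pm, hx, map_zero]
  let φ' : Γ(ρ.G, W₀) →+* SS A B J n := φ.hom.codRestrict (SS A B J n).toSubring fun d =>
    ⟨φ₀.hom d, (congrArg (fun F => F.hom d) hcomp).symm⟩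
  have hφ' : CommRingCat.ofHom φ' ≫ CommRingCat.ofHom (SS A B J n).val.toRingHom = φ := rfl
  obtain ⟨κ, hκ⟩ := exists_pt_eq ρ (Spec.map (CommRingCat.ofHom φ') ≫ hW₀.fromSpec) (by
    obtain ⟨c, hc⟩ : ∃ c, Spec.map c = hW₀.fromSpec ≫ ρ.p := ⟨Spec.preimage _, Spec.map_preimage _⟩
    rw [Category.assoc, ← hc, ← Spec.map_comp]
    have h1 : c ≫ φ = CommRingCat.ofHom (algebraMap A (RT A B R n)) := Spec.map_injective (by
      rw [Spec.map_comp, hc, ← Category.assoc, hφ, pt_p])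
    refine congrArg Spec.map (CommRingCat.hom_ext (RingHom.ext fun a => Subtype.ext ?_))
    exact (congrArg (fun F => F.hom a) h1).trans ((SS A B J n).val.commutes a).symm)
  refine ⟨κ, pt_injective ρ ?_, pt_injective ρ ?_⟩
  · rw [pt_pm, hκ, ← Category.assoc, ← Spec.map_comp, ← hφ₀]
    refine congrArg (fun F => Spec.map F ≫ hW₀.fromSpec) (CommRingCat.hom_ext (RingHom.ext fun d => ?_))
    exact σ_unique A B J n _ _ (congrArg (fun F => F.hom d) hcomp)
  · rw [pt_pm, hκ, ← Category.assoc, ← Spec.map_comp, hφ', hφ]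

include hJ hW₀ he₀ in
theorem small_eq_zero (n : ℕ) (κ : Sec M (Ob A h (SS A B J n))) (hσ : pm h M (σ A B J n) κ = 0)
    (hv : pm h M (SS A B J n).val κ = 0) : κ = 0 := by
  obtain ⟨hsurj, hk⟩ := σ_props A B J hJ n
  have hs := comap_surjective_of_sq (σ A B J n).toRingHom hsurj hk
  obtain ⟨φ, hφ⟩ := exists_open_factor hW₀ (pt ρ κ) (pt_mem ρ he₀ _ hs κ hσ)
  obtain ⟨φ₀, hφ₀⟩ := exists_open_factor hW₀ (pt ρ (0 : Sec M (Ob A h (SS A B J n)))) fun p => by
    rw [pt_zero]; exact he₀ _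
  refine pt_injective ρ ?_
  rw [← hφ, ← hφ₀]
  refine congrArg (fun F => Spec.map F ≫ hW₀.fromSpec) (CommRingCat.hom_ext (RingHom.ext fun d => Subtype.ext ?_))
  have e : φ ≫ CommRingCat.ofHom (SS A B J n).val.toRingHom = φ₀ ≫ CommRingCat.ofHom (SS A B J n).val.toRingHom := by
    refine Spec.map_injective ((cancel_mono hW₀.fromSpec).1 ?_)
    rw [Spec.map_comp, Spec.map_comp, Category.assoc, Category.assoc, hφ, hφ₀, ← pt_pm, ← pt_pm, hv, map_zero]
  exact congrArg (fun F => F.hom d) e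

include hJ hW₀ he₀ in
theorem exists_small_primitive (n : ℕ) (x : Sec M (Ob A h (RT A B R (n + 1))))
    (hx : pm h M (chg A B (Ideal.Quotient.mkₐ A J) (n + 1)) x = 0) (hd : dP h M R B (n + 1) x = 0) :
    ∃ y, pm h M (chg A B (Ideal.Quotient.mkₐ A J) n) y = 0 ∧ dP h M R B n y = x := by
  obtain ⟨κ, hκσ, hκ⟩ := exists_small B ρ J hJ hW₀ he₀ (n + 1) x hx
  obtain ⟨s, hs1⟩ := exists_retraction A B
  let dκ : Sec M (Ob A h (SS A B J (n + 2))) :=
    ∑ k : Fin (n + 3), (-1 : ℤ) ^ (k : ℕ) • pm h M (faceS A B J (n + 1) k) κ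
  have hvf : ∀ (m : ℕ) (k : Fin (m + 2)),
      (SS A B J (m + 1)).val.comp (faceS A B J m k) = (face A B R m k).comp (SS A B J m).val :=
    fun m k => AlgHom.ext fun y => rfl
  have hdκ : dκ = 0 := by
    refine small_eq_zero B ρ J hJ hW₀ he₀ (n + 2) dκ ?_ ?_
    · rw [map_sum]
      refine Finset.sum_eq_zero fun k _ => ?_
      rw [map_zsmul, pm_pm, σ_faceS, hκσ, smul_zero]
    · rw [← hd, dP_apply, map_sum]
      refine Finset.sum_congr rfl fun k _ => ?_
      rw [map_zsmul, pm_pm, hvf, ← pm_pm, hκ]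
  let Hn := H A B J hJ hs1
  refine ⟨pm h M (SS A B J n).val (pm h M (Hn n) κ), ?_, ?_⟩
  · rw [pm_pm, pm_pm, show ((chg A B (Ideal.Quotient.mkₐ A J) n).comp (SS A B J n).val).comp (Hn n) =
      (Algebra.TensorProduct.includeLeft : (R ⧸ J) →ₐ[A] RT A B (R ⧸ J) n).comp (σ A B J (n + 1)) from
      AlgHom.ext fun y => by
        rw [← σ_H A B J hJ hs1 n]
        exact (σ_spec A B J n _).symm, ← pm_pm, hκσ, map_zero]
  · have h0 : pm h M (Hn (n + 1)) (pm h M (faceS A B J (n + 1) 0) κ) = κ := by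
      rw [pm_pm, H_faceS_zero, pm_id]
    have hsucc : ∀ k : Fin (n + 2), pm h M (Hn (n + 1)) (pm h M (faceS A B J (n + 1) k.succ) κ) =
        pm h M (faceS A B J n k) (pm h M (Hn n) κ) := fun k => by
      rw [pm_pm, pm_pm, H_faceS_succ]
    have := congrArg (pm h M (Hn (n + 1))) hdκ
    simp only [dκ] at this
    rw [Fin.sum_univ_succ, map_add, map_sum, map_zero] at this
    simp only [map_zsmul, hsucc, Fin.val_zero, pow_zero, one_zsmul, h0, Fin.val_succ, pow_succ, mul_neg_one,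
      neg_smul, map_neg, Finset.sum_neg_distrib, ← sub_eq_add_neg, sub_eq_zero] at this
    refine Eq.trans ?_ (((congrArg (pm h M (SS A B J (n + 1)).val) this).symm).trans hκ)
    rw [dP_apply, map_sum]
    refine Finset.sum_congr rfl fun k _ => ?_
    rw [map_zsmul, pm_pm, pm_pm, pm_pm, pm_pm, hvf]
    try rfl

end Cocycle

end Groth.Agent.Desc19b.SmoothFppf.Pts
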