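import Groth.Agent.Desc19b.SmoothFppf.PtsGrp
import Groth.Agent.Et18.StrictlyHenselBase
import Groth.Prelude.Def_BigSite

/-!
# Smooth group schemes over schemes integral over a separably closed field
-/

set_option autoImplicit false
set_option backward.isDefEq.respectTransparency.types false
set_option backward.isDefEq.respectTransparency false
set_option linter.style.haveILetI false
set_option linter.all false
set_option synthInstance.maxHeartbeats 400000

universe u

open CategoryTheory CategoryTheory.Limits AlgebraicGeometry Opposite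

namespace Groth.Agent.Desc19b.SmoothFppf

open Groth.Agent.Desc19b.FppfEt

variable {X Y : Scheme.{u}} (f : Y ⟶ X)

/-- Representations restrict along a morphism of schemes. -/
noncomputable def Rep.pullBase {M : EtFppf.AbF X} (T : Over Y) (ρ : Rep M ((Over.map f).obj T)) :
    Rep (X := Y) ((BigSite.pullBig Scheme.fppfPrecoverage f AddCommGrpCat.{u + 1}).obj M) T where
  G := ρ.G
  p := ρ.p
  eqv Q g := ρ.eqv ((Over.map f).obj Q) ((Over.map f).map g)
  nat {Q Q'} q g x := (ρ.eqv_congr _ ((Over.map f).map_comp q g) _).trans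
    (ρ.nat ((Over.map f).map q) ((Over.map f).map g) x)

theorem goodCoeff_pullBig {M : EtFppf.AbF X} (hM : ∀ T : Over X, ∃ ρ : Rep M T, Smooth ρ.p) :
    GoodCoeff (X := Y) ((BigSite.pullBig Scheme.fppfPrecoverage f AddCommGrpCat.{u + 1}).obj M) :=
  goodCoeff_of_rep fun T => by
    obtain ⟨ρ, hρ⟩ := hM ((Over.map f).obj T)
    exact ⟨ρ.pullBase f T, hρ⟩

theorem goodCoeff_pullBig_pts (G : Over X) [GrpObj G] [IsCommMonObj G] [Smooth G.hom] :
    GoodCoeff (X := Y) ((BigSite.pullBig Scheme.fppfPrecoverage f AddCommGrpCat.{u + 1}).obj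
      (CGrpSh.pts Scheme.fppfPrecoverage G)) :=
  goodCoeff_pullBig f fun T => ⟨repPts G T, MorphismProperty.pullback_snd _ _ ‹Smooth G.hom›⟩

/-- Cohomology of good coefficients vanishes on schemes integral over a separably closed field. -/
theorem subsingleton_HF_of_integral {K : Type u} [Field K] [IsSepClosed K]
    (g : Y ⟶ Spec (CommRingCat.of K)) [IsIntegralHom g] {M : EtFppf.AbF Y} (hM : GoodCoeff M) (n : ℕ)
    (hn : 0 < n) : Subsingleton (EtFppf.HF Y M n) := by
  haveI : IsSepClosed (IsLocalRing.ResidueField K) := by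
    let e := RingEquiv.ofBijective (IsLocalRing.residue K)
      ⟨RingHom.injective _, IsLocalRing.residue_surjective⟩
    refine IsSepClosed.of_exists_root _ fun p _ hp hs => ?_
    obtain ⟨x, hx⟩ := IsSepClosed.exists_eval₂_eq_zero e.symm.toRingHom p
      (fun h0 => hp.degree_pos.ne' h0) hs
    refine ⟨e x, e.symm.injective ?_⟩
    rw [map_zero]
    refine Eq.trans ?_ hx
    rw [Polynomial.eval₂_eq_eval_map, ← Polynomial.eval₂_eq_eval_map]
    refine (Polynomial.hom_eval₂ p (RingHom.id _) e.symm.toRingHom (e x)).trans ?_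
    simp
  obtain ⟨e⟩ := nonempty_H_equiv_HF hM n
  obtain ⟨j, rfl⟩ := Nat.exists_eq_succ_of_ne_zero (by omega : n ≠ 0)
  haveI := Et18.subsingleton_H_of_integral g ((EtFppf.aPush Y).obj M) j
  exact e.symm.toEquiv.subsingleton

end Groth.Agent.Desc19b.SmoothFppf
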